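import Cfsg.Agent.H456.HM.Geo

/-!
# S5175, T12: the action of `S ∖ T` on `Z` (helper456)
-/

set_option autoImplicit false

namespace Cfsg.Agent.H456.HM

open Cfsg Cfsg.FusionSystem Cfsg.Agent.H756.HM Cfsg.Agent.H802

variable {Ω : Type*} [Group Ω] {K : Type} [Field K] {S T V W D : Subgroup Ω} {mu lam zet : Ω → K}

/-- the index of `D` in `Z` -/
theorem Crd.card_Z (h : Crd K V W D mu lam zet) [Fintype K] :
    Fintype.card K * Nat.card D = Nat.card ↥(V ⊓ W) := by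
  let μ : ↥(V ⊓ W) →* Multiplicative K :=
    { toFun := fun v => Multiplicative.ofAdd (zet v)
      map_one' := by
        show Multiplicative.ofAdd (zet 1) = 1
        rw [h.zet_one]; rfl
      map_mul' := fun v v' => by
        show Multiplicative.ofAdd (zet (v * v')) = _
        rw [h.zet_mul v v.2 v' v'.2]; rfl }
  have hμ : Function.Surjective μ := by
    intro k
    obtain ⟨v, hv, hv'⟩ := h.zet_surj (Multiplicative.toAdd k)
    exact ⟨⟨v, hv⟩, congrArg Multiplicative.ofAdd hv'⟩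
  have h4 := Subgroup.card_mul_index μ.ker
  rw [Subgroup.index_ker, MonoidHom.range_eq_top.2 hμ, Subgroup.card_top, Nat.card_congr Multiplicative.toAdd,
    Nat.card_eq_fintype_card (α := K)] at h4
  have h5 : μ.ker = D.subgroupOf (V ⊓ W) := by
    ext v
    rw [MonoidHom.mem_ker, Subgroup.mem_subgroupOf, ← h.zet_zero v v.2]
    exact ofAdd_eq_one
  rw [h5, Nat.card_congr (Subgroup.subgroupOfEquivOfLe h.D_le).toEquiv, mul_comm] at h4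
  exact h4

namespace Geo

variable (g : Geo K S T V W D mu lam zet)

include g

theorem zet_inj (hD : D = ⊥) {z z' : Ω} (hz : z ∈ V ⊓ W) (hz' : z' ∈ V ⊓ W) (hzz : zet z = zet z') : z = z' := by
  have h := g.crd
  have h1 : z * z' ∈ D := by
    rw [← h.zet_zero _ ((V ⊓ W).mul_mem hz hz'), h.zet_mul _ hz _ hz', hzz, h.add_self]
  rw [hD, Subgroup.mem_bot] at h1
  have h2 := eq_inv_of_mul_eq_one_left h1
  rw [h2, g.invZ hz']

/-- an element of `S ∖ T` centralizing `Z` -/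
theorem triv_case (hD : D = ⊥) {b : Ω} (hb : b ∈ S) (hbT : b ∉ T) (hc : ∀ z ∈ V ⊓ W, b * z * b⁻¹ = z) :
    ∃ a : K, a ≠ 0 ∧ ∀ v ∈ V, lam (b * v * b⁻¹) = a * mu v := by
  obtain ⟨σ, a, ha, -, hσ, -, hz⟩ := g.semi hD hb hbT
  have h1 : ∀ k, k = a * (σ a)⁻¹ * σ k := by
    intro k
    obtain ⟨z, hz1, hz2⟩ := g.crd.zet_surj k
    have h2 := hz z hz1
    rwa [hc z hz1, hz2] at h2
  have h2 : a * (σ a)⁻¹ = 1 := by
    have := h1 1
    rw [map_one, mul_one] at this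
    exact this.symm
  refine ⟨a, ha, fun v hv => ?_⟩
  rw [hσ v hv]
  congr 1
  have h3 := h1 (mu v)
  rw [h2, one_mul] at h3
  exact h3.symm

/-- an element of `S ∖ T` not centralizing `Z` -/
theorem ne_case (hD : D = ⊥) {b : Ω} (hb : b ∈ S) (hbT : b ∉ T) (hc : ∃ z ∈ V ⊓ W, b * z * b⁻¹ ≠ z) :
    ∃ (σ : K →+* K) (a : K), a ≠ 0 ∧ (∀ k, σ (σ k) = k) ∧ (∃ k, σ k ≠ k) ∧
      (∀ v ∈ V, lam (b * v * b⁻¹) = a * σ (mu v)) ∧ ∀ z ∈ V ⊓ W, zet (b * z * b⁻¹) = a * (σ a)⁻¹ * σ (zet z) := by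
  obtain ⟨σ, a, ha, hσσ, hσ, -, hz⟩ := g.semi hD hb hbT
  refine ⟨σ, a, ha, hσσ, ?_, hσ, hz⟩
  by_contra hno
  push Not at hno
  obtain ⟨z, hz1, hz2⟩ := hc
  apply hz2
  apply g.zet_inj hD (g.normZ hb hz1) hz1
  rw [hz z hz1, hno, hno, mul_inv_cancel₀ ha, one_mul]

/-- `[Z, b] = C_Z(b)` -/
theorem surj_of_ne [Fintype K] [Finite S] (hVS : V ≤ S) (typ : D = ⊥ ∨ Nat.card D = Fintype.card K) {b : Ω}
    (hb : b ∈ S) (hbT : b ∉ T)
    (hc : ∃ z ∈ V ⊓ W, b * z * b⁻¹ ≠ z) {c : Ω} (hcZ : c ∈ V ⊓ W) (hcb : b * c * b⁻¹ = c) :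
    ∃ z ∈ V ⊓ W, z * (b * z * b⁻¹) = c := by
  have h := g.crd
  rcases typ with hD | hD
  · obtain ⟨σ, a, ha, hσσ, ⟨k₀, hk₀⟩, -, hz⟩ := g.ne_case hD hb hbT hc
    have hσa : σ a ≠ 0 := (map_ne_zero σ).2 ha
    set f := zet c with hf
    have h1 : a * (σ a)⁻¹ * σ f = f := by rw [hf, ← hz c hcZ, hcb]
    set t₀ := k₀ + σ k₀ with ht₀
    have ht0 : t₀ ≠ 0 := fun h2 => hk₀ (h.eq_of_add h2).symm
    have hσt : σ t₀ = t₀ := by rw [ht₀, map_add, hσσ, add_comm]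
    obtain ⟨z, hz1, hz2⟩ := h.zet_surj (f * k₀ / t₀)
    refine ⟨z, hz1, ?_⟩
    apply g.zet_inj hD ((V ⊓ W).mul_mem hz1 (g.normZ hb hz1)) hcZ
    rw [h.zet_mul _ hz1 _ (g.normZ hb hz1), hz z hz1, hz2, ← hf, map_div₀, map_mul, hσt]
    have h2 : a * (σ a)⁻¹ * (σ f * σ k₀ / t₀) = f * σ k₀ / t₀ := by
      rw [← mul_div_assoc, ← mul_assoc, h1]
    rw [h2, ← add_div, ← mul_add, ← ht₀, mul_div_assoc, div_self ht0, mul_one]
  · -- `Z = D × D^b`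
    have hfZ : Finite ↥(V ⊓ W) := finite_of_le (inf_le_left.trans hVS)
    have hDZ := h.D_le
    let φ : D × D → ↥(V ⊓ W) := fun p => ⟨p.1 * (b * p.2 * b⁻¹),
      (V ⊓ W).mul_mem (hDZ p.1.2) (g.normZ hb (hDZ p.2.2))⟩
    have hfD : Finite D := finite_of_le (hDZ.trans (inf_le_left.trans hVS))
    have hinj : Function.Injective φ := by
      rintro ⟨d, e⟩ ⟨d', e'⟩ h1
      have h2 : (d : Ω) * (b * e * b⁻¹) = d' * (b * e' * b⁻¹) := congrArg Subtype.val h1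
      have h3 : b * ((e : Ω) * (e' : Ω)⁻¹) * b⁻¹ = (d : Ω)⁻¹ * d' := by
        calc b * ((e : Ω) * (e' : Ω)⁻¹) * b⁻¹ = (d : Ω)⁻¹ * (d * (b * e * b⁻¹)) * (b * e' * b⁻¹)⁻¹ := by group
          _ = (d : Ω)⁻¹ * (d' * (b * e' * b⁻¹)) * (b * e' * b⁻¹)⁻¹ := by rw [h2]
          _ = (d : Ω)⁻¹ * d' := by group
      have h4 := g.DD b hb hbT _ (D.mul_mem e.2 (D.inv_mem e'.2)) (by
        rw [h3]; exact D.mul_mem (D.inv_mem d.2) d'.2)
      rw [h4] at h3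
      have h5 : (e : Ω) = e' := mul_inv_eq_one.1 h4
      have h6 : (d : Ω)⁻¹ * d' = 1 := by rw [← h3]; group
      exact Prod.ext (Subtype.ext (inv_mul_eq_one.1 h6)) (Subtype.ext h5)
    have hbij : Function.Bijective φ := by
      rw [Nat.bijective_iff_injective_and_card]
      refine ⟨hinj, ?_⟩
      rw [Nat.card_prod, ← h.card_Z, hD]
    obtain ⟨⟨d, e⟩, hde⟩ := hbij.2 ⟨c, hcZ⟩
    have h1 : (d : Ω) * (b * e * b⁻¹) = c := congrArg Subtype.val hde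
    -- `c^b = c`
    have h2 : b * c * b⁻¹ = e * (b * d * b⁻¹) := by
      have h3 := g.act_sq hb hbT (hDZ e.2)
      calc b * c * b⁻¹ = (b * d * b⁻¹) * (b * (b * e * b⁻¹) * b⁻¹) := by rw [← h1]; group
        _ = (b * d * b⁻¹) * e := by rw [h3]
        _ = e * (b * d * b⁻¹) := g.cenZ (hDZ e.2) (g.ZT (g.normZ hb (hDZ d.2)))
    have h3 : φ (d, e) = φ (e, d) := Subtype.ext (by
      show (d : Ω) * (b * e * b⁻¹) = e * (b * d * b⁻¹)
      rw [h1, ← h2, hcb])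
    have h4 := hinj h3
    have h5 : d = e := congrArg Prod.fst h4
    refine ⟨d, hDZ d.2, ?_⟩
    rw [← h1, ← h5]

/-- `C_Z(b)` -/
def ZS (_ : Geo K S T V W D mu lam zet) (b : Ω) : Subgroup Ω := V ⊓ W ⊓ Subgroup.centralizer {b}

omit g in
theorem mem_ZS (g : Geo K S T V W D mu lam zet) {b z : Ω} : z ∈ g.ZS b ↔ z ∈ V ⊓ W ∧ b * z * b⁻¹ = z := by
  unfold ZS
  rw [Subgroup.mem_inf, Subgroup.mem_centralizer_singleton_iff]
  constructor
  · rintro ⟨h1, h2⟩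
    exact ⟨h1, by rw [← h2, mul_inv_cancel_right]⟩
  · rintro ⟨h1, h2⟩
    refine ⟨h1, ?_⟩
    nth_rewrite 1 [← h2]
    group

/-- `z z^b` is centralized by `b` -/
theorem zz_mem {b z : Ω} (hb : b ∈ S) (hbT : b ∉ T) (hz : z ∈ V ⊓ W) : z * (b * z * b⁻¹) ∈ g.ZS b := by
  rw [g.mem_ZS]
  refine ⟨(V ⊓ W).mul_mem hz (g.normZ hb hz), ?_⟩
  have e : b * (z * (b * z * b⁻¹)) * b⁻¹ = (b * z * b⁻¹) * (b * (b * z * b⁻¹) * b⁻¹) := by group
  rw [e, g.act_sq hb hbT hz, g.cenZ hz (g.ZT (g.normZ hb hz))]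

/-- `|Z| = |C_Z(b)|²` -/
theorem card_sq [Fintype K] [Finite S] (hVS : V ≤ S) (typ : D = ⊥ ∨ Nat.card D = Fintype.card K) {b : Ω}
    (hb : b ∈ S) (hbT : b ∉ T) (hc : ∃ z ∈ V ⊓ W, b * z * b⁻¹ ≠ z) :
    Nat.card ↥(V ⊓ W) = Nat.card (g.ZS b) * Nat.card (g.ZS b) := by
  have hfZ : Finite ↥(V ⊓ W) := finite_of_le (inf_le_left.trans hVS)
  have hle : g.ZS b ≤ V ⊓ W := inf_le_left
  let φ : ↥(V ⊓ W) →* ↥(V ⊓ W) :=
    { toFun := fun z => ⟨z * (b * z * b⁻¹), (V ⊓ W).mul_mem z.2 (g.normZ hb z.2)⟩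
      map_one' := Subtype.ext (by
        show (1 : Ω) * (b * 1 * b⁻¹) = 1
        group)
      map_mul' := fun z z' => Subtype.ext (by
        show (z : Ω) * z' * (b * (z * z') * b⁻¹) = z * (b * z * b⁻¹) * (z' * (b * z' * b⁻¹))
        have h1 := g.cenZ z'.2 (g.ZT (g.normZ hb z.2))
        have e : b * ((z : Ω) * z') * b⁻¹ = (b * z * b⁻¹) * (b * z' * b⁻¹) := by group
        rw [e]
        calc (z : Ω) * z' * ((b * z * b⁻¹) * (b * z' * b⁻¹)) = z * (z' * (b * z * b⁻¹)) * (b * z' * b⁻¹) := by group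
          _ = z * ((b * z * b⁻¹) * z') * (b * z' * b⁻¹) := by rw [h1]
          _ = _ := by group) }
  have hker : φ.ker = (g.ZS b).subgroupOf (V ⊓ W) := by
    ext z
    rw [MonoidHom.mem_ker, Subgroup.mem_subgroupOf, g.mem_ZS]
    constructor
    · intro h1
      have h2 : (z : Ω) * (b * z * b⁻¹) = 1 := congrArg Subtype.val h1
      refine ⟨z.2, ?_⟩
      rw [← g.invZ (g.normZ hb z.2)]
      exact (eq_inv_of_mul_eq_one_left h2).symm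
    · rintro ⟨-, h1⟩
      apply Subtype.ext
      show (z : Ω) * (b * z * b⁻¹) = 1
      rw [h1]
      exact g.crd.elV _ z.2.1
  have hran : φ.range = (g.ZS b).subgroupOf (V ⊓ W) := by
    ext z
    rw [MonoidHom.mem_range, Subgroup.mem_subgroupOf]
    constructor
    · rintro ⟨y, rfl⟩
      exact g.zz_mem hb hbT y.2
    · intro h1
      obtain ⟨y, hy, hy'⟩ := g.surj_of_ne hVS typ hb hbT hc z.2 (g.mem_ZS.1 h1).2
      exact ⟨⟨y, hy⟩, Subtype.ext hy'⟩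
  have h1 := Subgroup.card_mul_index φ.ker
  rw [Subgroup.index_ker, hker, hran, Nat.card_congr (Subgroup.subgroupOfEquivOfLe hle).toEquiv] at h1
  exact h1.symm

/-- `Δ ≤ Z C_T(y)` for an involution `y ∈ S ∖ T` not centralizing `Z` -/
theorem exists_fix [Fintype K] [Finite S] (hVS : V ≤ S) (typ : D = ⊥ ∨ Nat.card D = Fintype.card K) {y : Ω}
    (hy : y ∈ S) (hyT : y ∉ T) (hyy : y * y = 1) (hc : ∃ z ∈ V ⊓ W, y * z * y⁻¹ ≠ z) {t : Ω} (ht : t ∈ g.Del) :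
    ∃ z ∈ V ⊓ W, y * (t * z) * y⁻¹ = t * z := by
  have hyi : y⁻¹ = y := inv_eq_of_mul_eq_one_left hyy
  obtain ⟨u, hu⟩ : ∃ u, u = t * y * t⁻¹ * y⁻¹ := ⟨_, rfl⟩
  have huZ : u ∈ V ⊓ W := by rw [hu]; exact ht.2 y hy
  have hyu : y * u * y⁻¹ = u := by
    have e1 : y * u * y⁻¹ = u⁻¹ := by
      have e2 : u⁻¹ = y * t * y⁻¹ * t⁻¹ := by rw [hu]; group
      rw [e2, hu]
      have e3 : y * (t * y * t⁻¹ * y⁻¹) * y⁻¹ = y * t * y * t⁻¹ * (y * y)⁻¹ := by group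
      rw [e3, hyy, inv_one, mul_one, hyi]
    rw [e1, g.invZ huZ]
  obtain ⟨z, hz, hzz⟩ := g.surj_of_ne hVS typ hy hyT hc huZ hyu
  refine ⟨z, hz, ?_⟩
  have e1 : y * t * y⁻¹ = u⁻¹ * t := by rw [hu]; group
  have e2 : y * z * y⁻¹ = z⁻¹ * u := by rw [← hzz]; group
  have e3 : y * (t * z) * y⁻¹ = (y * t * y⁻¹) * (y * z * y⁻¹) := by group
  have h1 := g.cenZ huZ ht.1
  rw [e3, e1, e2, g.invZ hz, g.invZ huZ, ← mul_assoc, mul_assoc u t z, g.cenZ hz ht.1, ← mul_assoc,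
    mul_assoc (u * z) t u, h1, ← mul_assoc, mul_assoc u z u, ← g.cenZ hz (g.ZT huZ), ← mul_assoc,
    g.crd.elV u huZ.1, one_mul]

end Geo

end Cfsg.Agent.H456.HM
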