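import Cfsg.Agent.H456.HM.EssC

/-!
# S5175, T12: `StEss` (helper456)
-/

set_option autoImplicit false

namespace Cfsg.Agent.H456.HM

open Cfsg Cfsg.FusionSystem Cfsg.Agent.H756.HM Cfsg.Agent.H802

universe u

/-- the geometry of `Big` -/
theorem geo_of_big {Ω : Type*} [Group Ω] {S : Subgroup Ω} {F : FusionSystem S} {K : Type} [Field K] [Fintype K]
    {V T : Subgroup Ω} {x : Ω} [Finite S] (b : Big F K V T x) {mu lam zet : Ω → K}
    (h : Crd K V (cj x V) (fixS V b.E) mu lam zet) :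
    Geo K S T V (cj x V) (fixS V b.E) mu lam zet := by
  have c := b.toConf
  have hx := swp_of_conf b.toConf
  have hidx : ∀ a ∈ S, a ∉ T → x⁻¹ * a ∈ T := by
    have h1 : (T.subgroupOf S).index = 2 := b.S_idx
    intro a ha haT
    have h2 := Subgroup.mul_mem_iff_of_index_two h1 (a := ⟨x⁻¹, S.inv_mem b.x_mem⟩) (b := ⟨a, ha⟩)
    rw [Subgroup.mem_subgroupOf, Subgroup.mem_subgroupOf, Subgroup.mem_subgroupOf] at h2
    refine h2.2 ⟨fun h3 => (b.x_not ?_).elim, fun h3 => (haT h3).elim⟩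
    have h4 : x⁻¹ ∈ T := h3
    simpa using T.inv_mem h4
  have hsw : ∀ a ∈ S, a ∉ T → Swp a V (cj x V) := by
    intro a ha haT
    have h1 := hidx a ha haT
    constructor
    · intro v hv
      have h2 := hx.a1 _ (T_normV b.toConf h1 hv)
      have e : x * (x⁻¹ * a * v * (x⁻¹ * a)⁻¹) * x⁻¹ = a * v * a⁻¹ := by group
      rwa [e] at h2
    · intro w hw
      have h2 := hx.a2 _ (T_normW b.toConf h1 hw)
      have e : x * (x⁻¹ * a * w * (x⁻¹ * a)⁻¹) * x⁻¹ = a * w * a⁻¹ := by group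
      rwa [e] at h2
    · intro v hv
      have h2 := T_normW b.toConf (T.inv_mem h1) (hx.b1 _ hv)
      have e : (x⁻¹ * a)⁻¹ * (x⁻¹ * v * x) * (x⁻¹ * a)⁻¹⁻¹ = a⁻¹ * v * a := by group
      rwa [e] at h2
    · intro w hw
      have h2 := T_normV b.toConf (T.inv_mem h1) (hx.b2 _ hw)
      have e : (x⁻¹ * a)⁻¹ * (x⁻¹ * w * x) * (x⁻¹ * a)⁻¹⁻¹ = a⁻¹ * w * a := by group
      rwa [e] at h2
  refine ⟨h, b.T_eq, T_le b.toConf, ?_, fun s hs hsV => cenV b.toConf hs hsV, hsw, ?_⟩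
  · intro a ha haT c hc hcT
    have h1 := hidx a ha haT
    have h2 := hidx c hc hcT
    have e : a * c = (x * (x⁻¹ * a) * x⁻¹) * x ^ 2 * (x⁻¹ * c) := by rw [pow_two]; group
    rw [e]
    exact T.mul_mem (T.mul_mem (x_T b.toConf h1) b.x_sq) h2
  · intro a ha haT d hd hd'
    have h1 := hidx a ha haT
    apply DD_of_conf b.toConf d hd
    have hT : T = V ⊔ cj x V := b.T_eq
    have h3 := h.cenZ (h.D_le hd) (hT ▸ h1)
    have e : a * d * a⁻¹ = x * ((x⁻¹ * a) * d * (x⁻¹ * a)⁻¹) * x⁻¹ := by group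
    rwa [e, h3, mul_inv_cancel_right] at hd'

/-- **T12.** -/
theorem stEss : StEss.{u} := by
  classical
  intro Ω _ S _ hS F hF K _ _ V T x b R hR hRT
  have h2 : Fact (Nat.Prime 2) := ⟨Nat.prime_two⟩
  obtain ⟨mu, lam, zet, hc⟩ := exists_crd b.toConf
  have g := geo_of_big b hc
  set W := cj x V with hW
  set D := fixS V b.E with hDdef
  have hVS : V ≤ S := b.V_le
  have hq := b.q4
  have typ : D = ⊥ ∨ Nat.card D = Fintype.card K := b.typ.imp id fun h => h.1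
  have hRS := ess_le hR
  have hfR : Finite R := finite_of_le hRS
  obtain ⟨b₀, hb₀, hb₀T⟩ := SetLike.not_le_iff_exists.1 hRT
  have hb₀S := hRS hb₀
  have hZR := g.Z_le_R hS hF hq hVS typ hR hb₀ hb₀T
  obtain ⟨α, hα, z₀, hz₀, hαz₀⟩ : ∃ α ∈ F.autGroup R, ∃ z : R, (z : Ω) ∈ V ⊓ W ∧ ((α z : R) : Ω) ∉ V ⊓ W := by
    by_contra hno
    push Not at hno
    exact g.Z_not_inv hS hF hq hVS typ hR hb₀ hb₀T hno
  -- the involution `y = α z₀`
  obtain ⟨y, hy⟩ : ∃ y, y = ((α z₀ : R) : Ω) := ⟨_, rfl⟩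
  have hyR : y ∈ R := by rw [hy]; exact (α z₀).2
  have hyS := hRS hyR
  have hyy : y * y = 1 := by
    have h4 : z₀ * z₀ = 1 := Subtype.ext (hc.elV z₀ hz₀.1)
    have h5 := congrArg α h4
    rw [map_mul, map_one] at h5
    rw [hy]
    exact congrArg Subtype.val h5
  -- conjugates of `y` in `R` commute with `y`
  have hconj : ∀ r ∈ R, (r * y * r⁻¹) * y = y * (r * y * r⁻¹) := by
    intro r hr
    have h3 : (((α⁻¹ ⟨r, hr⟩) * z₀ * (α⁻¹ ⟨r, hr⟩)⁻¹ : R) : Ω) ∈ V ⊓ W := g.normZ (hRS (α⁻¹ ⟨r, hr⟩).2) hz₀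
    have h4 : ((α⁻¹ ⟨r, hr⟩) * z₀ * (α⁻¹ ⟨r, hr⟩)⁻¹) * z₀ = z₀ * ((α⁻¹ ⟨r, hr⟩) * z₀ * (α⁻¹ ⟨r, hr⟩)⁻¹) :=
      Subtype.ext (hc.commV h3.1 hz₀.1)
    have h5 := congrArg α h4
    simp only [map_mul, map_inv, MulAut.apply_inv_self] at h5
    have h6 := congrArg Subtype.val h5
    simp only [Subgroup.coe_mul, Subgroup.coe_inv, ← hy] at h6
    exact h6
  have hyZ : y ∉ V ⊓ W := by rw [hy]; exact hαz₀
  have hyT : y ∉ T := by
    intro hyT
    have sw := g.sw b₀ hb₀S hb₀T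
    have h3 := hconj b₀ hb₀
    rcases hc.inv_mem (g.mT hyT) hyy with h4 | h4
    · have h5 : y ∉ W := fun h => hyZ ⟨h4, h⟩
      rcases hc.comm_one h4 (sw.a1 _ h4) h3.symm with h6 | h6
      · exact h5 h6
      · exact g.not_swap hb₀S hb₀T h5 h6
    · have h5 : y ∉ V := fun h => hyZ ⟨h, h4⟩
      rcases hc.comm_one (sw.a2 _ h4) h4 h3 with h6 | h6
      · have h7 := sw.b2 _ h6
        have e : b₀⁻¹ * (b₀ * y * b₀⁻¹) * b₀ = y := by group
        rw [e] at h7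
        exact h5 h7
      · exact h5 h6
  -- central involutions
  have hZSinv := fun (β : MulAut R) (r : R) (hr : (r : Ω) ∈ g.ZS y) =>
    g.ZS_inv hS hF hq hVS typ hR hyR hyT β r hr
  have hne : ∃ z ∈ V ⊓ W, y * z * y⁻¹ ≠ z := by
    by_contra hno
    push Not at hno
    have h3 := hZSinv α z₀ (g.mem_ZS.2 ⟨hz₀, hno z₀ hz₀⟩)
    exact hαz₀ (g.mem_ZS.1 h3).1
  -- elements whose image under `α⁻¹` lies in `T`
  have hcomm : ∀ r : R, ((α⁻¹ r : R) : Ω) ∈ T → y * (r : Ω) * y⁻¹ = r := by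
    intro r hr
    have h4 : (α⁻¹ r) * z₀ = z₀ * (α⁻¹ r) := Subtype.ext (g.cenZ hz₀ hr)
    have h5 := congrArg α h4
    rw [map_mul, map_mul, MulAut.apply_inv_self] at h5
    have h6 : (r : Ω) * y = y * r := by rw [hy]; exact congrArg Subtype.val h5
    rw [← h6, mul_inv_cancel_right]
  have hZS2 : ∀ z ∈ V ⊓ W, z ∉ g.ZS y → ∀ r ∈ R, y * r * y⁻¹ = r ∨ y * (z * r) * y⁻¹ = z * r := by
    intro z hz hzZ r hr
    by_cases h3 : ((α⁻¹ ⟨r, hr⟩ : R) : Ω) ∈ T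
    · exact Or.inl (hcomm ⟨r, hr⟩ h3)
    · right
      have h4 : ((α⁻¹ ⟨z, hZR hz⟩ : R) : Ω) ∉ T := fun h => hzZ (g.mem_ZS.2 ⟨hz, hcomm ⟨z, hZR hz⟩ h⟩)
      have h5 := g.mul _ (hRS (α⁻¹ ⟨z, hZR hz⟩).2) h4 _ (hRS (α⁻¹ ⟨r, hr⟩).2) h3
      have h6 : ((α⁻¹ (⟨z, hZR hz⟩ * ⟨r, hr⟩) : R) : Ω) ∈ T := by
        rw [map_mul]
        exact h5
      exact hcomm _ h6
  obtain ⟨z₁, hz₁, hyz₁⟩ := hne
  have hz₁Z : z₁ ∉ g.ZS y := fun h => hyz₁ (g.mem_ZS.1 h).2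
  have hne : ∃ z ∈ V ⊓ W, y * z * y⁻¹ ≠ z := ⟨z₁, hz₁, hyz₁⟩
  -- orders
  have hfZ : Finite ↥(V ⊓ W) := finite_of_le (inf_le_left.trans hVS)
  have hcsq := g.card_sq hVS typ hyS hyT hne
  have hidx : ((g.ZS y).subgroupOf (V ⊓ W)).index = 2 := by
    rw [Subgroup.index_eq_two_iff]
    refine ⟨⟨z₁, hz₁⟩, fun a => ?_⟩
    by_cases h3 : (a : Ω) ∈ g.ZS y
    · refine Or.inr ⟨h3, fun h4 => hz₁Z ?_⟩
      have h5 : (a : Ω) * z₁ ∈ g.ZS y := h4
      have := (g.ZS y).mul_mem ((g.ZS y).inv_mem h3) h5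
      rwa [inv_mul_cancel_left] at this
    · refine Or.inl ⟨?_, h3⟩
      show (a : Ω) * z₁ ∈ g.ZS y
      rcases hZS2 z₁ hz₁ hz₁Z a (hZR a.2) with h4 | h4
      · exact (h3 (g.mem_ZS.2 ⟨a.2, h4⟩)).elim
      · rw [hc.commV a.2.1 hz₁.1]
        exact g.mem_ZS.2 ⟨(V ⊓ W).mul_mem hz₁ a.2, h4⟩
  have hc2 := Subgroup.card_mul_index ((g.ZS y).subgroupOf (V ⊓ W))
  have hZSle : g.ZS y ≤ V ⊓ W := fun z hz => (g.mem_ZS.1 hz).1
  rw [hidx, Nat.card_congr (Subgroup.subgroupOfEquivOfLe hZSle).toEquiv] at hc2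
  have hcZ := hc.card_Z
  have hfZS : Finite (g.ZS y) := finite_of_le (inf_le_left.trans (inf_le_left.trans hVS))
  have hpos : 0 < Nat.card (g.ZS y) := Nat.card_pos
  have hZS_card : Nat.card (g.ZS y) = 2 := by
    have h3 : Nat.card (g.ZS y) * 2 = Nat.card (g.ZS y) * Nat.card (g.ZS y) := hc2.trans hcsq
    exact (Nat.eq_of_mul_eq_mul_left hpos h3).symm
  have hZ_card : Nat.card ↥(V ⊓ W) = 4 := by rw [hcsq, hZS_card]
  have hfD : Finite D := finite_of_le (hc.D_le.trans (inf_le_left.trans hVS))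
  have hDpos : 0 < Nat.card D := Nat.card_pos
  have hDcard : Nat.card D = 1 := by
    rw [hZ_card] at hcZ
    nlinarith
  have hK4 : Fintype.card K = 4 := by rw [hZ_card, hDcard, mul_one] at hcZ; exact hcZ
  have hD : D = ⊥ := Subgroup.card_eq_one.1 hDcard
  -- `C_T(y) ≤ R`
  have hZSR : g.ZS y ≤ R := fun z hz => hZR (g.mem_ZS.1 hz).1
  have hCT : ∀ t ∈ T, y * t * y⁻¹ = t → t ∈ R := by
    intro t ht hyt
    have key : ∀ s ∈ R, y * s * y⁻¹ = s → t * s * t⁻¹ * s⁻¹ ∈ g.ZS y := by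
      have key1 : ∀ s ∈ T, y * s * y⁻¹ = s → t * s * t⁻¹ * s⁻¹ ∈ g.ZS y := by
        intro s hs hys
        refine g.mem_ZS.2 ⟨g.commTT ht hs, ?_⟩
        have e : y * (t * s * t⁻¹ * s⁻¹) * y⁻¹ = (y * t * y⁻¹) * (y * s * y⁻¹) * (y * t * y⁻¹)⁻¹ * (y * s * y⁻¹)⁻¹ := by
          group
        rw [e, hyt, hys]
      intro s hs hys
      by_cases hsT : s ∈ T
      · exact key1 s hsT hys
      · have h3 := key1 _ (g.mul_inv (hRS hs) hsT hyS hyT) (by
          have e : y * (s * y⁻¹) * y⁻¹ = (y * s * y⁻¹) * y⁻¹ := by group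
          rw [e, hys])
        have hyt' : t * y = y * t := by
          nth_rewrite 1 [← hyt]
          group
        have e : t * (s * y⁻¹) * t⁻¹ * (s * y⁻¹)⁻¹ = t * s * t⁻¹ * s⁻¹ := by
          have e1 : y⁻¹ * t⁻¹ = t⁻¹ * y⁻¹ := by rw [← mul_inv_rev, ← mul_inv_rev, hyt']
          calc t * (s * y⁻¹) * t⁻¹ * (s * y⁻¹)⁻¹ = t * s * (y⁻¹ * t⁻¹) * y * s⁻¹ := by group
            _ = t * s * (t⁻¹ * y⁻¹) * y * s⁻¹ := by rw [e1]
            _ = t * s * t⁻¹ * s⁻¹ := by group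
        rwa [e] at h3
    refine mem_of_chain3 hS hR (g.ZS y) (g.ZS y) le_rfl hZSR (fun β _ r hr => hZSinv β r hr)
      (fun β _ r hr => hZSinv β r hr) (g.T_le ht) (fun r hr => ?_) (fun z hz => ?_)
      (fun z hz => g.ZS_cent hyS hyT hz (g.T_le ht))
    · rcases hZS2 z₁ hz₁ hz₁Z r hr with h3 | h3
      · exact key r hr h3
      · have h4 := key _ (R.mul_mem (hZR hz₁) hr) h3
        have h5 := g.cenZ hz₁ ht
        have e : t * r * t⁻¹ * r⁻¹ = z₁⁻¹ * (t * (z₁ * r) * t⁻¹ * (z₁ * r)⁻¹) * z₁ := by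
          have e1 : t * z₁ * t⁻¹ = z₁ := by rw [h5, mul_inv_cancel_right]
          calc t * r * t⁻¹ * r⁻¹ = z₁⁻¹ * (z₁ * (t * r * t⁻¹ * r⁻¹)) := by group
            _ = z₁⁻¹ * ((t * z₁ * t⁻¹) * (t * r * t⁻¹ * r⁻¹)) := by rw [e1]
            _ = z₁⁻¹ * (t * (z₁ * r) * t⁻¹ * (z₁ * r)⁻¹) * z₁ := by group
        rw [e, mul_assoc, ← g.ZS_cent hyS hyT h4 (hVS hz₁.1), ← mul_assoc, inv_mul_cancel, one_mul]
        exact h4
    · rw [g.ZS_cent hyS hyT hz (g.T_le ht)]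
      have : z * t * t⁻¹ * z⁻¹ = 1 := by group
      rw [this]
      exact (g.ZS y).one_mem
  -- `R ∩ T = Δ`
  have hDR : g.Del ≤ R := by
    intro t ht
    obtain ⟨z, hz, hzt⟩ := g.exists_fix hVS typ hyS hyT hyy hne ht
    have h3 := hCT _ (T.mul_mem ht.1 (g.ZT hz)) hzt
    have := R.mul_mem h3 (R.inv_mem (hZR hz))
    rwa [mul_inv_cancel_right] at this
  have hRD : ∀ r ∈ R, r ∈ T → r ∈ g.Del := by
    have key : ∀ t ∈ T, y * t * y⁻¹ = t → t ∈ g.Del := by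
      intro t ht hyt
      refine g.mem_Del_of ht hyS hyT ?_
      have e : t * y * t⁻¹ * y⁻¹ = t * (y * t * y⁻¹)⁻¹ := by group
      rw [e, hyt, mul_inv_cancel]
      exact (V ⊓ W).one_mem
    intro r hr hrT
    rcases hZS2 z₁ hz₁ hz₁Z r hr with h3 | h3
    · exact key r hrT h3
    · have h4 := key _ (T.mul_mem (g.ZT hz₁) hrT) h3
      have := g.Del.mul_mem (g.Del.inv_mem (g.Z_le_Del hz₁)) h4
      rwa [inv_mul_cancel_left] at this
  have hRcard : Nat.card R = 32 := by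
    have h3 : g.Del.subgroupOf R = T.subgroupOf R := by
      ext r
      rw [Subgroup.mem_subgroupOf, Subgroup.mem_subgroupOf]
      exact ⟨fun h => h.1, fun h => hRD r r.2 h⟩
    have hidx2 : (T.subgroupOf R).index = 2 := by
      rw [Subgroup.index_eq_two_iff]
      refine ⟨⟨y, hyR⟩, fun a => ?_⟩
      by_cases h3 : (a : Ω) ∈ T
      · refine Or.inr ⟨h3, fun h4 => hyT ?_⟩
        have h5 : (a : Ω) * y ∈ T := h4
        have := T.mul_mem (T.inv_mem h3) h5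
        rwa [inv_mul_cancel_left] at this
      · exact Or.inl ⟨g.mul _ (hRS a.2) h3 y hyS hyT, h3⟩
    have h4 := Subgroup.card_mul_index (g.Del.subgroupOf R)
    rw [Nat.card_congr (Subgroup.subgroupOfEquivOfLe hDR).toEquiv, h3, hidx2, g.card_Del ⟨y, hyS, hyT⟩, hK4,
      hZ_card] at h4
    exact h4.symm
  refine ⟨hK4, hD, hRcard, hZR, ?_, ?_, α, hα, z₀, hz₀, ?_⟩
  · -- `S` normalizes `R`
    intro s hs
    apply mem_norm
    have key : ∀ t ∈ T, ∀ r ∈ R, t * r * t⁻¹ ∈ R := by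
      intro t ht r hr
      have e : t * r * t⁻¹ = (t * r * t⁻¹ * r⁻¹) * r := by group
      rw [e]
      exact R.mul_mem (hDR (g.comm_Del (hRS hr) ht)) hr
    intro r hr
    by_cases hsT : s ∈ T
    · exact key s hsT r hr
    · have h3 := key _ (g.mul_inv hs hsT hyS hyT) _ (R.mul_mem (R.mul_mem hyR hr) (R.inv_mem hyR))
      have e : s * y⁻¹ * (y * r * y⁻¹) * (s * y⁻¹)⁻¹ = s * r * s⁻¹ := by group
      rwa [e] at h3
  · -- the center
    have hcen : ∀ r : R, r ∈ Subgroup.center R ↔ (r : Ω) ∈ g.ZS y := by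
      intro r
      rw [Subgroup.mem_center_iff]
      constructor
      · intro hr
        have hr' : ∀ s ∈ R, s * (r : Ω) = r * s := fun s hs => congrArg Subtype.val (hr ⟨s, hs⟩)
        have hrT : (r : Ω) ∈ T := by
          by_contra h3
          apply hyz₁
          rw [g.act_eq hyS hyT (hRS r.2) h3 hz₁, ← hr' z₁ (hZR hz₁), mul_inv_cancel_right]
        have hyr : y * r * y⁻¹ = r := by rw [hr' y hyR, mul_inv_cancel_right]
        refine g.mem_ZS.2 ⟨?_, hyr⟩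
        by_contra hrZ
        obtain ⟨v, hv, z, hz, hvz⟩ := g.exists_vv hyS hyT (hRD r r.2 hrT)
        have sv := (g.sw y hyS hyT).a1 v hv
        have hvW : v ∉ W := by
          intro h3
          apply hrZ
          rw [hvz]
          exact (V ⊓ W).mul_mem ((V ⊓ W).mul_mem ⟨hv, h3⟩ (g.normZ hyS ⟨hv, h3⟩)) hz
        obtain ⟨σ, a, ha, -, ⟨m, hm⟩, hlam, -⟩ := g.ne_case hD hyS hyT hne
        have hk : mu v ≠ 0 := fun h => hvW ((hc.mu_zero v hv).1 h)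
        have hσk : σ (mu v) ≠ 0 := (map_ne_zero σ).2 hk
        obtain ⟨u, hu, hum⟩ := hc.mu_surj (mu v * m)
        have su := (g.sw y hyS hyT).a1 u hu
        have h3 := hr' _ (hDR (g.vv_mem hyS hyT hu))
        rw [hvz] at h3
        have h4 : u * (y * u * y⁻¹) * (v * (y * v * y⁻¹)) = v * (y * v * y⁻¹) * (u * (y * u * y⁻¹)) := by
          have h5 := g.cenZ hz (g.vv_mem hyS hyT hu).1
          apply mul_right_cancel (b := z)
          calc u * (y * u * y⁻¹) * (v * (y * v * y⁻¹)) * z = u * (y * u * y⁻¹) * (v * (y * v * y⁻¹) * z) := by group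
            _ = v * (y * v * y⁻¹) * z * (u * (y * u * y⁻¹)) := h3
            _ = v * (y * v * y⁻¹) * (z * (u * (y * u * y⁻¹))) := by group
            _ = v * (y * v * y⁻¹) * ((u * (y * u * y⁻¹)) * z) := by rw [h5]
            _ = _ := by group
        rw [hc.comm_iff hu su hv sv] at h4
        have h5 := congrArg zet h4
        rw [hc.zet_com _ hu _ sv, hc.zet_com _ hv _ su, hlam v hv, hlam u hu, hum, map_mul] at h5
        apply hm
        have h6 : mu v * a * σ (mu v) * σ m = mu v * a * σ (mu v) * m := by linear_combination -h5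
        exact mul_left_cancel₀ (mul_ne_zero (mul_ne_zero hk ha) hσk) h6
      · intro hr s
        exact Subtype.ext (g.ZS_cent hyS hyT hr (hRS s.2))
    have e : Subgroup.center R = (g.ZS y).subgroupOf R := by
      ext r
      rw [hcen, Subgroup.mem_subgroupOf]
    rw [e, Nat.card_congr (Subgroup.subgroupOfEquivOfLe hZSR).toEquiv, hZS_card]
  · rw [← hy]
    exact hyT

end Cfsg.Agent.H456.HM
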