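import Cfsg.Agent.H456.HM.Dich

/-!
# S5175, T12: essential subgroups not in `T` (helper456)

`no_central` : such a subgroup has no central involution outside `T`.
-/

set_option autoImplicit false

namespace Cfsg.Agent.H456.HM

open Cfsg Cfsg.FusionSystem Cfsg.Agent.H756.HM Cfsg.Agent.H802

variable {Ω : Type*} [Group Ω] {K : Type} [Field K] {S T V W D : Subgroup Ω} {mu lam zet : Ω → K}

namespace Geo

variable (g : Geo K S T V W D mu lam zet)

include g

theorem ZS_indep {b c z : Ω} (hb : b ∈ S) (hbT : b ∉ T) (hc : c ∈ S) (hcT : c ∉ T) (hz : z ∈ g.ZS b) : z ∈ g.ZS c := by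
  rw [g.mem_ZS] at hz ⊢
  exact ⟨hz.1, by rw [← hz.2, ← g.act_eq hb hbT hc hcT (by rw [hz.2]; exact hz.1), hz.2, hz.2]⟩

/-- `C_Z(b)` is central in `S` -/
theorem ZS_cent {b z s : Ω} (hb : b ∈ S) (hbT : b ∉ T) (hz : z ∈ g.ZS b) (hs : s ∈ S) : s * z = z * s := by
  by_cases hsT : s ∈ T
  · exact g.cenZ (g.mem_ZS.1 hz).1 hsT
  · have h1 := (g.mem_ZS.1 (g.ZS_indep hb hbT hs hsT hz)).2
    nth_rewrite 2 [← h1]
    group

/-- involutions of `T` centralized by an element of `S ∖ T` -/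
theorem inv_cent {b w : Ω} (hb : b ∈ S) (hbT : b ∉ T) (hw : w ∈ T) (hww : w * w = 1) (hc : b * w * b⁻¹ = w) :
    w ∈ g.ZS b := by
  rw [g.mem_ZS]
  refine ⟨?_, hc⟩
  rcases g.crd.inv_mem (g.mT hw) hww with h1 | h1
  · exact ⟨h1, by rw [← hc]; exact (g.sw b hb hbT).a1 w h1⟩
  · exact ⟨by rw [← hc]; exact (g.sw b hb hbT).a2 w h1, h1⟩

/-- `C_Z(b) ≠ 1` -/
theorem exists_ZS [Fintype K] {b : Ω} (hb : b ∈ S) (hbT : b ∉ T) : ∃ z ∈ g.ZS b, z ≠ 1 := by
  obtain ⟨z, hz, hz1⟩ := g.crd.zet_surj 1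
  have hzne : z ≠ 1 := by
    rintro rfl
    rw [g.crd.zet_one] at hz1
    exact one_ne_zero hz1.symm
  by_cases h1 : z * (b * z * b⁻¹) = 1
  · refine ⟨z, g.mem_ZS.2 ⟨hz, ?_⟩, hzne⟩
    rw [← g.invZ (g.normZ hb hz)]
    exact (eq_inv_of_mul_eq_one_left h1).symm
  · exact ⟨_, g.zz_mem hb hbT hz, h1⟩

theorem exists_sq [Fintype K] (k : K) : ∃ m : K, m * m = k := by
  have hinj : Function.Injective (fun m : K => m * m) := by
    intro m n hmn
    have h1 : m * m = n * n := hmn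
    have h2 : (m + n) * (m + n) = 0 := by linear_combination h1 + n * (m + n) * g.crd.two
    exact g.crd.eq_of_add (mul_self_eq_zero.1 h2)
  exact (Finite.injective_iff_surjective.1 hinj) k

theorem D_bot_of_triv {b : Ω} (hb : b ∈ S) (hbT : b ∉ T) (hc : ∀ z ∈ V ⊓ W, b * z * b⁻¹ = z) : D = ⊥ := by
  rw [eq_bot_iff]
  intro d hd
  rw [Subgroup.mem_bot]
  exact g.DD b hb hbT d hd (by rw [hc d (g.crd.D_le hd)]; exact hd)

/-- **The transvections**: for `c ∈ C_Z(y)`, an element `u ∈ S` with `[u, y] = c`. -/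
theorem exists_tv [Fintype K] [Finite S] (hVS : V ≤ S) (typ : D = ⊥ ∨ Nat.card D = Fintype.card K) {y c : Ω}
    (hy : y ∈ S) (hyT : y ∉ T) (hyy : y * y = 1) (hc : c ∈ g.ZS y) :
    ∃ u ∈ T, u * y * u⁻¹ = c * y ∧ u * u ∈ g.ZS y ∧ ∀ r ∈ S, u * r * u⁻¹ * r⁻¹ ∈ g.ZS y := by
  obtain ⟨hcZ, hcy⟩ := g.mem_ZS.1 hc
  by_cases htriv : ∀ z ∈ V ⊓ W, y * z * y⁻¹ = z
  · -- `y` centralizes `Z`
    have hD := g.D_bot_of_triv hy hyT htriv
    have hZS : ∀ z ∈ V ⊓ W, z ∈ g.ZS y := fun z hz => g.mem_ZS.2 ⟨hz, htriv z hz⟩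
    obtain ⟨a, ha, hlam⟩ := g.triv_case hD hy hyT htriv
    obtain ⟨m, hm⟩ := g.exists_sq (zet c / a)
    obtain ⟨v, hv, hvm⟩ := g.crd.mu_surj m
    have hv' := (g.sw y hy hyT).a1 v hv
    have hu := g.vv_mem hy hyT hv
    refine ⟨v * (y * v * y⁻¹), hu.1, ?_, hZS _ (g.crd.sq_mem (g.mT hu.1)), fun r hr => hZS _ (hu.2 r hr)⟩
    have hyi : y⁻¹ = y := inv_eq_of_mul_eq_one_left hyy
    have e1 : y * (y * v * y⁻¹) * y⁻¹ = v := by
      have : y * (y * v * y⁻¹) * y⁻¹ = (y * y) * v * (y * y)⁻¹ := by group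
      rw [this, hyy]
      group
    have e2 : v * (y * v * y⁻¹) * y * (v * (y * v * y⁻¹))⁻¹ * y⁻¹ =
        v * (y * v * y⁻¹) * (y * (y * v * y⁻¹) * y⁻¹)⁻¹ * (y * v * y⁻¹)⁻¹ := by group
    rw [e1] at e2
    have e3 : v * (y * v * y⁻¹) * y * (v * (y * v * y⁻¹))⁻¹ * y⁻¹ = c := by
      rw [e2]
      apply g.zet_inj hD (g.crd.com v hv _ hv') hcZ
      rw [g.crd.zet_com v hv _ hv', hlam v hv, hvm]
      field_simp at hm
      linear_combination hm
    calc v * (y * v * y⁻¹) * y * (v * (y * v * y⁻¹))⁻¹ =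
        v * (y * v * y⁻¹) * y * (v * (y * v * y⁻¹))⁻¹ * y⁻¹ * y := by group
      _ = c * y := by rw [e3]
  · push Not at htriv
    obtain ⟨u, hu, huc⟩ := g.surj_of_ne hVS typ hy hyT htriv hcZ hcy
    have huy : u * y * u⁻¹ * y⁻¹ = c := by
      have e : u * y * u⁻¹ * y⁻¹ = u * (y * u * y⁻¹)⁻¹ := by group
      rw [e, g.invZ (g.normZ hy hu), huc]
    refine ⟨u, g.ZT hu, ?_, ?_, fun r hr => ?_⟩
    · rw [← huy]; group
    · rw [g.crd.elV u hu.1]
      exact (g.ZS y).one_mem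
    · by_cases hrT : r ∈ T
      · have e : u * r * u⁻¹ * r⁻¹ = 1 := by rw [← g.cenZ hu hrT]; group
        rw [e]
        exact (g.ZS y).one_mem
      · have e : u * r * u⁻¹ * r⁻¹ = u * (r * u * r⁻¹)⁻¹ := by group
        rw [e, g.invZ (g.normZ hr hu), g.act_eq hr hrT hy hyT hu, huc]
        exact hc

end Geo

theorem mem_norm {R : Subgroup Ω} [Finite R] {u : Ω} (h : ∀ r ∈ R, u * r * u⁻¹ ∈ R) :
    u ∈ Subgroup.normalizer (R : Set Ω) := by
  have hcj : cj u R = R := by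
    apply Subgroup.eq_of_le_of_card_ge
    · rintro _ ⟨r, hr, rfl⟩
      exact h r hr
    · rw [card_cj]
  rw [Subgroup.mem_normalizer_iff]
  intro r
  refine ⟨h r, fun hr => ?_⟩
  rw [← hcj, mem_cj] at hr
  have : u⁻¹ * (u * r * u⁻¹) * u = r := by group
  rwa [this] at hr

namespace Geo

variable (g : Geo K S T V W D mu lam zet)

include g

/-- **There is no central involution outside `T`.** -/
theorem no_central [Fintype K] [Finite S] (hS : IsPGroup 2 S) {F : FusionSystem S} (hF : F.IsSaturated 2)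
    (hq : 4 ≤ Fintype.card K) (hVS : V ≤ S) (typ : D = ⊥ ∨ Nat.card D = Fintype.card K) {R : Subgroup Ω}
    (hR : F.IsEssential 2 R) {y : Ω} (hy : y ∈ R) (hyT : y ∉ T) (hyy : y * y = 1) (hyc : ∀ r ∈ R, r * y = y * r) :
    False := by
  classical
  have h2 : Fact (Nat.Prime 2) := ⟨Nat.prime_two⟩
  have hRS := ess_le hR
  have hfR : Finite R := finite_of_le hRS
  have hyS := hRS hy
  have hyi : y⁻¹ = y := inv_eq_of_mul_eq_one_left hyy
  have hZSR : g.ZS y ≤ R := fun z hz => ess_cent hR (hVS (g.mem_ZS.1 hz).1.1) fun r hr =>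
    (g.ZS_cent hyS hyT hz (hRS hr)).symm
  have hCI1 : ∀ w ∈ R, w * w = 1 → (∀ r ∈ R, r * w = w * r) → w ∈ T → w ∈ g.ZS y := by
    intro w hw hww hwc hwT
    exact g.inv_cent hyS hyT hwT hww (by rw [hwc y hy, mul_inv_cancel_right])
  have inv : ∀ α ∈ F.autGroup R, ∀ r : R, (r : Ω) ∈ g.ZS y → ((α r : R) : Ω) ∈ g.ZS y := by
    by_contra hinv
    obtain ⟨M, hMX, hMne, hM⟩ := ess_odd hS hF hR
    obtain ⟨α, hα, hαM, s₁, hs₁, hαs₁⟩ : ∃ α ∈ F.autGroup R, α ∉ M ∧ ∃ s : R, (s : Ω) ∈ g.ZS y ∧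
        ((α s : R) : Ω) ∉ g.ZS y := by
      by_contra hno
      push Not at hno
      apply hinv
      obtain ⟨α₀, hα₀, hα₀M⟩ := SetLike.exists_of_lt (lt_of_le_of_ne hMX hMne)
      intro β hβ r hr
      by_cases hβM : β ∈ M
      · have h1 : α₀ * β ∉ M := fun h => hα₀M (by
          have := M.mul_mem h (M.inv_mem hβM)
          rwa [mul_inv_cancel_right] at this)
        have h3 : α₀⁻¹ ∉ M := fun h => hα₀M (by simpa using M.inv_mem h)
        have h4 := hno _ ((F.autGroup R).mul_mem hα₀ hβ) h1 r hr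
        have h5 := hno _ ((F.autGroup R).inv_mem hα₀) h3 _ h4
        rw [MulAut.mul_apply, MulAut.inv_apply_self] at h5
        exact h5
      · exact hno β hβ hβM r hr
    -- central involutions are preserved
    have hcen : ∀ r : R, (r : Ω) ∈ g.ZS y → ((α r : R) : Ω) * (α r : R) = 1 ∧
        ∀ r' ∈ R, r' * ((α r : R) : Ω) = (α r : R) * r' := by
      intro r hr
      refine ⟨?_, fun r' hr' => ?_⟩
      · have h4 : r * r = 1 := Subtype.ext (g.crd.elV r (g.mem_ZS.1 hr).1.1)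
        have h5 := congrArg α h4
        rw [map_mul, map_one] at h5
        exact congrArg Subtype.val h5
      · have h4 : α⁻¹ ⟨r', hr'⟩ * r = r * α⁻¹ ⟨r', hr'⟩ := Subtype.ext
          (g.ZS_cent hyS hyT hr (hRS (α⁻¹ ⟨r', hr'⟩).2))
        have h5 := congrArg α h4
        rw [map_mul, map_mul, MulAut.apply_inv_self] at h5
        exact congrArg Subtype.val h5
    have hy₁T : ((α s₁ : R) : Ω) ∉ T := fun h => hαs₁ (hCI1 _ (α s₁).2 (hcen s₁ hs₁).1 (hcen s₁ hs₁).2 h)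
    by_cases hs : ∃ s : R, (s : Ω) ∈ g.ZS y ∧ s ≠ 1 ∧ ((α s : R) : Ω) ∈ g.ZS y
    · -- two transvections
      obtain ⟨s, hsZ, hs1, hαs⟩ := hs
      have hy₁S := hRS (α s₁).2
      obtain ⟨u, huT, huy, huu, hur⟩ := g.exists_tv hVS typ hy₁S hy₁T (hcen s₁ hs₁).1
        (g.ZS_indep hyS hyT hy₁S hy₁T hαs)
      obtain ⟨u', hu'T, hu'y, hu'u, hu'r⟩ := g.exists_tv hVS typ hyS hyT hyy hsZ
      have huu' := g.ZS_indep hy₁S hy₁T hyS hyT huu
      have hn : ∀ r ∈ R, u * r * u⁻¹ ∈ R := by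
        intro r hr
        have e : u * r * u⁻¹ = (u * r * u⁻¹ * r⁻¹) * r := by group
        rw [e]
        exact R.mul_mem (hZSR (g.ZS_indep hy₁S hy₁T hyS hyT (hur r (hRS hr)))) hr
      have hn' : ∀ r ∈ R, u' * r * u'⁻¹ ∈ R := by
        intro r hr
        have e : u' * r * u'⁻¹ = (u' * r * u'⁻¹ * r⁻¹) * r := by group
        rw [e]
        exact R.mul_mem (hZSR (hu'r r (hRS hr))) hr
      obtain ⟨τ, hτ⟩ := exists_conjAut (mem_norm hn)
      obtain ⟨τ', hτ'⟩ := exists_conjAut (mem_norm hn')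
      have hτS : τ ∈ autInducedBy S R := conj_mem_autInducedBy (g.T_le huT) hτ
      have hτ'S : τ' ∈ autInducedBy S R := conj_mem_autInducedBy (g.T_le hu'T) hτ'
      have hc1 : ((α s : R) : Ω) ≠ 1 := fun h => hs1 (by
        have h3 : α s = 1 := Subtype.ext h
        exact (map_eq_one_iff α α.injective).1 h3)
      have hs1' : (s : Ω) ≠ 1 := fun h => hs1 (Subtype.ext h)
      have inn_fix : ∀ θ ∈ Inn R, ∀ w : R, (∀ r' ∈ R, r' * (w : Ω) = w * r') → θ w = w := by
        rintro _ ⟨ρ, rfl⟩ w hw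
        apply Subtype.ext
        show (ρ : Ω) * w * (ρ : Ω)⁻¹ = w
        rw [hw _ ρ.2, mul_inv_cancel_right]
      have hτI : τ ∉ Inn R := by
        intro h
        have h3 := inn_fix τ h (α s₁) (hcen s₁ hs₁).2
        have h4 := congrArg Subtype.val h3
        rw [hτ, huy] at h4
        exact hc1 (mul_eq_right.1 h4)
      have hτ'I : τ' ∉ Inn R := by
        intro h
        have h3 := inn_fix τ' h ⟨y, hy⟩ hyc
        have h4 := congrArg Subtype.val h3
        rw [hτ', hu'y] at h4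
        exact hs1' (mul_eq_right.1 h4)
      have hττ : τ * τ ∈ Inn R := by
        refine ⟨⟨u * u, hZSR huu'⟩, MulEquiv.ext fun r => Subtype.ext ?_⟩
        show u * u * r * (u * u)⁻¹ = ((τ (τ r) : R) : Ω)
        rw [hτ, hτ]
        group
      have hτ'τ' : τ' * τ' ∈ Inn R := by
        refine ⟨⟨u' * u', hZSR hu'u⟩, MulEquiv.ext fun r => Subtype.ext ?_⟩
        show u' * u' * r * (u' * u')⁻¹ = ((τ' (τ' r) : R) : Ω)
        rw [hτ', hτ']
        group
      obtain ⟨n, hn, hθ⟩ := hM α hα hαM τ hτS τ' hτ'S hτI hτ'I hττ hτ'τ'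
      have hτ'Z : ∀ z : R, (z : Ω) ∈ g.ZS y → τ' z = z := by
        intro z hz
        apply Subtype.ext
        rw [hτ', g.ZS_cent hyS hyT hz (g.T_le hu'T), mul_inv_cancel_right]
      have hθ1 : (τ * (α * τ' * α⁻¹)) (α s₁) = α s * α s₁ := by
        show τ (α (τ' (α⁻¹ (α s₁)))) = _
        rw [MulAut.inv_apply_self, hτ'Z s₁ hs₁]
        apply Subtype.ext
        rw [hτ, huy]
        rfl
      have hθ2 : (τ * (α * τ' * α⁻¹)) (α s) = α s := by
        show τ (α (τ' (α⁻¹ (α s)))) = _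
        rw [MulAut.inv_apply_self, hτ'Z s hsZ]
        apply Subtype.ext
        rw [hτ, g.ZS_cent hyS hyT hαs (g.T_le huT), mul_inv_cancel_right]
      have hpow : ∀ k : ℕ, ((τ * (α * τ' * α⁻¹)) ^ k) (α s₁) = (α s) ^ k * α s₁ := by
        intro k
        induction k with
        | zero => simp
        | succ k ih =>
          rw [pow_succ', MulAut.mul_apply, ih, map_mul, map_pow, hθ2, hθ1, ← mul_assoc, ← pow_succ]
      have h3 := inn_fix _ hθ (α s₁) (hcen s₁ hs₁).2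
      rw [hpow] at h3
      have h4 : (α s) ^ n = 1 := mul_eq_right.1 h3
      obtain ⟨k, hk⟩ := hn
      have h5 : α s * α s = 1 := Subtype.ext (hcen s hsZ).1
      rw [hk, pow_succ, pow_mul, pow_two, h5, one_pow, one_mul] at h4
      exact hc1 (congrArg Subtype.val h4)
    · -- `|C_Z(y)| = 2`
      push Not at hs
      have honly : ∀ s : R, (s : Ω) ∈ g.ZS y → s = 1 ∨ s = s₁ := by
        intro s hsZ
        by_cases hs1 : s = 1
        · exact Or.inl hs1
        right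
        have h3 := hs s hsZ hs1
        have h4 : ((α s : R) : Ω) ∉ T := fun h => h3 (hCI1 _ (α s).2 (hcen s hsZ).1 (hcen s hsZ).2 h)
        have h5 : ((α (s * s₁) : R) : Ω) ∈ T := by
          rw [map_mul, Subgroup.coe_mul]
          exact g.mul _ (hRS (α s).2) h4 _ (hRS (α s₁).2) hy₁T
        have h6 : ((s * s₁ : R) : Ω) ∈ g.ZS y := (g.ZS y).mul_mem hsZ hs₁
        have h7 : s * s₁ = 1 := by
          by_contra h8
          exact hs _ h6 h8 (hCI1 _ (α _).2 (hcen _ h6).1 (hcen _ h6).2 h5)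
        have h8 : s₁ * s₁ = 1 := Subtype.ext (g.crd.elV s₁ (g.mem_ZS.1 hs₁).1.1)
        rw [eq_inv_of_mul_eq_one_left h7, inv_eq_of_mul_eq_one_left h8]
      have htriv : ∃ z ∈ V ⊓ W, y * z * y⁻¹ ≠ z := by
        by_contra hno
        push Not at hno
        obtain ⟨k, hk⟩ : ∃ k : K, k ∉ ({0, zet s₁} : Finset K) := by
          by_contra hno'
          push Not at hno'
          have h3 : (Finset.univ : Finset K) ⊆ {0, zet s₁} := fun k _ => hno' k
          have h4 := (Finset.card_le_card h3).trans Finset.card_le_two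
          rw [Finset.card_univ] at h4
          omega
        rw [Finset.mem_insert, Finset.mem_singleton, not_or] at hk
        obtain ⟨z, hz, hzk⟩ := g.crd.zet_surj k
        have hzZ : z ∈ g.ZS y := g.mem_ZS.2 ⟨hz, hno z hz⟩
        rcases honly ⟨z, hZSR hzZ⟩ hzZ with h3 | h3
        · have h4 : z = 1 := congrArg Subtype.val h3
          rw [h4, g.crd.zet_one] at hzk
          exact hk.1 hzk.symm
        · have h4 : z = s₁ := congrArg Subtype.val h3
          rw [h4] at hzk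
          exact hk.2 hzk.symm
      -- an element of `C_T(y)` outside `Z`
      obtain ⟨v, hv, hv1⟩ := g.crd.mu_surj 1
      obtain ⟨z, hz, hzy⟩ := g.exists_fix hVS typ hyS hyT hyy htriv (g.vv_mem hyS hyT hv)
      obtain ⟨t₁, ht₁⟩ : ∃ t₁, t₁ = v * (y * v * y⁻¹) * z := ⟨_, rfl⟩
      rw [← ht₁] at hzy
      have ht₁T : t₁ ∈ T := by
        rw [ht₁]
        exact T.mul_mem (g.vv_mem hyS hyT hv).1 (g.ZT hz)
      have ht₁Z : t₁ ∉ V ⊓ W := by
        intro h3
        have h4 := ((g.crd.mem_Z_iff (g.mT ht₁T)).1 h3).1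
        rw [ht₁, mul_assoc, g.crd.mh_eq hv (W.mul_mem ((g.sw y hyS hyT).a1 v hv) hz.2), hv1] at h4
        exact one_ne_zero h4
      have hrT : ∀ r ∈ R, r ∉ T → r * y ∈ T := fun r hr hrT => g.mul r (hRS hr) hrT y hyS hyT
      obtain ⟨t, htR, htT, htZ⟩ : ∃ t ∈ R, t ∈ T ∧ t ∉ V ⊓ W := by
        by_contra hno
        push Not at hno
        apply ht₁Z
        have h3 : t₁ ∈ R := by
          refine ess_cent hR (g.T_le ht₁T) fun r hr => ?_
          by_cases h4 : r ∈ T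
          · exact g.cenZ (hno r hr h4) ht₁T
          · have h5 := g.cenZ (hno _ (R.mul_mem hr hy) (hrT r hr h4)) ht₁T
            have h6 : t₁ * y = y * t₁ := by
              nth_rewrite 1 [← hzy]
              group
            have h7 : t₁ * r * y = r * t₁ * y := by
              rw [mul_assoc, h5, mul_assoc r y t₁, ← h6, ← mul_assoc]
            exact mul_right_cancel h7
        exact hno t₁ h3 ht₁T
      have hyt : y * t * y⁻¹ = t := by rw [← hyc t htR, mul_inv_cancel_right]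
      have htt : t * t ≠ 1 := by
        intro h3
        rcases g.crd.inv_mem (g.mT htT) h3 with h4 | h4
        · exact htZ ⟨h4, by rw [← hyt]; exact (g.sw y hyS hyT).a1 t h4⟩
        · exact htZ ⟨by rw [← hyt]; exact (g.sw y hyS hyT).a2 t h4, h4⟩
      have hsq : ∀ r ∈ R, r * r ∈ g.ZS y := by
        have key : ∀ r ∈ R, r ∈ T → r * r ∈ g.ZS y := by
          intro r hr h3
          refine g.mem_ZS.2 ⟨g.crd.sq_mem (g.mT h3), ?_⟩
          rw [← hyc _ (R.mul_mem hr hr), mul_inv_cancel_right]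
        intro r hr
        by_cases h3 : r ∈ T
        · exact key r hr h3
        · have h4 := key _ (R.mul_mem hr hy) (hrT r hr h3)
          have e : r * y * (r * y) = r * r * (y * y) := by
            calc r * y * (r * y) = r * (y * r) * y := by group
              _ = r * (r * y) * y := by rw [hyc r hr]
              _ = r * r * (y * y) := by group
          rwa [e, hyy, mul_one] at h4
      have h3 := honly ⟨t * t, R.mul_mem htR htR⟩ (hsq t htR)
      have h4 : (⟨t * t, R.mul_mem htR htR⟩ : R) = s₁ := h3.resolve_left fun h => htt (congrArg Subtype.val h)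
      apply hαs₁
      have h5 : α s₁ = α ⟨t, htR⟩ * α ⟨t, htR⟩ := by
        rw [← h4, ← map_mul]
        rfl
      rw [h5]
      exact hsq _ (α ⟨t, htR⟩).2
  -- the end
  obtain ⟨c, hc, hc1⟩ := g.exists_ZS hyS hyT
  obtain ⟨u, huT, huy, -, hur⟩ := g.exists_tv hVS typ hyS hyT hyy hc
  have huR : u ∈ R := mem_of_chain3 hS hR (g.ZS y) (g.ZS y) le_rfl hZSR inv inv (g.T_le huT)
    (fun r hr => hur r (hRS hr))
    (fun z hz => by
      rw [g.ZS_cent hyS hyT hz (g.T_le huT)]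
      have : z * u * u⁻¹ * z⁻¹ = 1 := by group
      rw [this]
      exact (g.ZS y).one_mem) (fun z hz => g.ZS_cent hyS hyT hz (g.T_le huT))
  rw [hyc u huR, mul_inv_cancel_right] at huy
  exact hc1 (mul_eq_right.1 huy.symm)

end Geo

end Cfsg.Agent.H456.HM
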