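import Cfsg.Agent.H456.HM.EssB

/-!
# S5175, T12: essential subgroups not in `T` (helper456)

`Z_not_inv` : `Z` is not invariant under `Aut_F(R)`.
-/

set_option autoImplicit false

namespace Cfsg.Agent.H456.HM

open Cfsg Cfsg.FusionSystem Cfsg.Agent.H756.HM Cfsg.Agent.H802

variable {Ω : Type*} [Group Ω] {K : Type} [Field K] {S T V W D : Subgroup Ω} {mu lam zet : Ω → K}

namespace Geo

variable (g : Geo K S T V W D mu lam zet)

include g

omit [Field K] g in
theorem comm_inv {a b : Ω} (hab : a * b * a⁻¹ * b⁻¹ ∈ V ⊓ W) : b * a * b⁻¹ * a⁻¹ ∈ V ⊓ W := by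
  have e : b * a * b⁻¹ * a⁻¹ = (a * b * a⁻¹ * b⁻¹)⁻¹ := by group
  rw [e]
  exact (V ⊓ W).inv_mem hab

/-- the central involutions of `R` -/
theorem ZS_inv [Fintype K] [Finite S] (hS : IsPGroup 2 S) {F : FusionSystem S} (hF : F.IsSaturated 2)
    (hq : 4 ≤ Fintype.card K) (hVS : V ≤ S) (typ : D = ⊥ ∨ Nat.card D = Fintype.card K) {R : Subgroup Ω}
    (hR : F.IsEssential 2 R) {b : Ω} (hb : b ∈ R) (hbT : b ∉ T) (α : MulAut R) (r : R) (hr : (r : Ω) ∈ g.ZS b) :
    ((α r : R) : Ω) ∈ g.ZS b := by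
  have hRS := ess_le hR
  have h1 : ((α r : R) : Ω) * (α r : R) = 1 := by
    have h4 : r * r = 1 := Subtype.ext (g.crd.elV r (g.mem_ZS.1 hr).1.1)
    have h5 := congrArg α h4
    rw [map_mul, map_one] at h5
    exact congrArg Subtype.val h5
  have h2 : ∀ r' ∈ R, r' * ((α r : R) : Ω) = (α r : R) * r' := by
    intro r' hr'
    have h4 : α⁻¹ ⟨r', hr'⟩ * r = r * α⁻¹ ⟨r', hr'⟩ := Subtype.ext
      (g.ZS_cent (hRS hb) hbT hr (hRS (α⁻¹ ⟨r', hr'⟩).2))
    have h5 := congrArg α h4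
    rw [map_mul, map_mul, MulAut.apply_inv_self] at h5
    exact congrArg Subtype.val h5
  by_cases h3 : ((α r : R) : Ω) ∈ T
  · exact g.inv_cent (hRS hb) hbT h3 h1 (by rw [h2 b hb, mul_inv_cancel_right])
  · exact (g.no_central hS hF hq hVS typ hR (α r).2 h3 h1 h2).elim

/-- `Z ≤ R` -/
theorem Z_le_R [Fintype K] [Finite S] (hS : IsPGroup 2 S) {F : FusionSystem S} (hF : F.IsSaturated 2)
    (hq : 4 ≤ Fintype.card K) (hVS : V ≤ S) (typ : D = ⊥ ∨ Nat.card D = Fintype.card K) {R : Subgroup Ω}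
    (hR : F.IsEssential 2 R) {b : Ω} (hb : b ∈ R) (hbT : b ∉ T) : V ⊓ W ≤ R := by
  have h2 : Fact (Nat.Prime 2) := ⟨Nat.prime_two⟩
  have hRS := ess_le hR
  have hZSR : g.ZS b ≤ R := fun z hz => ess_cent hR (hVS (g.mem_ZS.1 hz).1.1) fun r hr =>
    (g.ZS_cent (hRS hb) hbT hz (hRS hr)).symm
  have inv := fun (α : MulAut R) (_ : α ∈ F.autGroup R) (r : R) (hr : (r : Ω) ∈ g.ZS b) =>
    g.ZS_inv hS hF hq hVS typ hR hb hbT α r hr
  intro z hz
  refine mem_of_chain3 hS hR (g.ZS b) (g.ZS b) le_rfl hZSR inv inv (hVS hz.1) (fun r hr => ?_) (fun y hy => ?_)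
    (fun y hy => ?_)
  · by_cases hrT : r ∈ T
    · have e : z * r * z⁻¹ * r⁻¹ = 1 := by rw [← g.cenZ hz hrT]; group
      rw [e]
      exact (g.ZS b).one_mem
    · have e : z * r * z⁻¹ * r⁻¹ = z * (r * z * r⁻¹)⁻¹ := by group
      rw [e, g.invZ (g.normZ (hRS hr) hz), g.act_eq (hRS hr) hrT (hRS hb) hbT hz]
      exact g.zz_mem (hRS hb) hbT hz
  · rw [g.ZS_cent (hRS hb) hbT hy (hVS hz.1)]
    have : y * z * z⁻¹ * y⁻¹ = 1 := by group
    rw [this]
    exact (g.ZS b).one_mem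
  · exact g.ZS_cent (hRS hb) hbT hy (hVS hz.1)

/-- **`Z` is not invariant.** -/
theorem Z_not_inv [Fintype K] [Finite S] (hS : IsPGroup 2 S) {F : FusionSystem S} (hF : F.IsSaturated 2)
    (hq : 4 ≤ Fintype.card K) (hVS : V ≤ S) (typ : D = ⊥ ∨ Nat.card D = Fintype.card K) {R : Subgroup Ω}
    (hR : F.IsEssential 2 R) {b : Ω} (hb : b ∈ R) (hbT : b ∉ T)
    (inv : ∀ α ∈ F.autGroup R, ∀ r : R, (r : Ω) ∈ V ⊓ W → ((α r : R) : Ω) ∈ V ⊓ W) : False := by
  classical
  have h2 : Fact (Nat.Prime 2) := ⟨Nat.prime_two⟩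
  have hRS := ess_le hR
  have hbS := hRS hb
  have hZR := g.Z_le_R hS hF hq hVS typ hR hb hbT
  -- `Δ ≤ R`
  have hDR : g.Del ≤ R := fun t ht => mem_of_chain3 hS hR (V ⊓ W) (V ⊓ W) le_rfl hZR inv inv (g.T_le ht.1)
    (fun r hr => ht.2 r (hRS hr)) (fun z hz => by
      rw [g.cenZ hz ht.1]
      have : z * t * t⁻¹ * z⁻¹ = 1 := by group
      rw [this]
      exact (V ⊓ W).one_mem) (fun z hz => g.cenZ hz ht.1)
  -- `Δ` is invariant
  have invD : ∀ α ∈ F.autGroup R, ∀ r : R, (r : Ω) ∈ g.Del → ((α r : R) : Ω) ∈ g.Del := by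
    by_cases hcase : ∃ t₁ ∈ R, t₁ ∈ T ∧ t₁ ∉ g.Del
    · obtain ⟨t₁, ht₁R, ht₁T, ht₁D⟩ := hcase
      intro α hα r hr
      have h3 : ∀ s ∈ R, ((α r : R) : Ω) * s * ((α r : R) : Ω)⁻¹ * s⁻¹ ∈ V ⊓ W := by
        intro s hs
        have h4 := hr.2 _ (hRS (α⁻¹ ⟨s, hs⟩).2)
        have h5 := inv α hα (r * (α⁻¹ ⟨s, hs⟩) * r⁻¹ * (α⁻¹ ⟨s, hs⟩)⁻¹) h4
        rw [map_mul, map_mul, map_mul, map_inv, map_inv, MulAut.apply_inv_self] at h5
        exact h5
      by_cases h4 : ((α r : R) : Ω) ∈ T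
      · exact g.mem_Del_of h4 hbS hbT (h3 b hb)
      · exact (ht₁D (g.mem_Del_of ht₁T (hRS (α r).2) h4 (comm_inv (h3 t₁ ht₁R)))).elim
    · push Not at hcase
      by_cases htriv : ∀ z ∈ V ⊓ W, b * z * b⁻¹ = z
      · -- `b` centralizes `Z`
        have hD := g.D_bot_of_triv hbS hbT htriv
        have htriv' : ∀ c ∈ S, c ∉ T → ∀ z ∈ V ⊓ W, c * z * c⁻¹ = z := fun c hc hcT z hz => by
          rw [g.act_eq hc hcT hbS hbT hz, htriv z hz]
        by_cases hbb : b * b ∈ V ⊓ W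
        · -- `b² ∈ Z`
          have habel : ∀ s ∈ g.Del, ∀ t ∈ g.Del, s * t = t * s := by
            obtain ⟨a, ha, hlam⟩ := g.triv_case hD hbS hbT htriv
            intro s hs t ht
            obtain ⟨v, hv, z, hz, rfl⟩ := g.exists_vv hbS hbT hs
            obtain ⟨v', hv', z', hz', rfl⟩ := g.exists_vv hbS hbT ht
            have sv := (g.sw b hbS hbT).a1 v hv
            have sv' := (g.sw b hbS hbT).a1 v' hv'
            rw [mul_assoc v, mul_assoc v', g.crd.comm_iff hv (W.mul_mem sv hz.2) hv' (W.mul_mem sv' hz'.2)]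
            apply g.zet_inj hD (g.crd.com _ hv _ (W.mul_mem sv' hz'.2)) (g.crd.com _ hv' _ (W.mul_mem sv hz.2))
            rw [g.crd.zet_com _ hv _ (W.mul_mem sv' hz'.2), g.crd.zet_com _ hv' _ (W.mul_mem sv hz.2),
              g.crd.lam_mul _ sv' _ hz'.2, g.crd.lam_mul _ sv _ hz.2, (g.crd.lam_zero z' hz'.2).2 hz'.1,
              (g.crd.lam_zero z hz.2).2 hz.1, hlam v hv, hlam v' hv']
            ring
          intro α hα r hr
          by_contra hαr
          have hαrT : ((α r : R) : Ω) ∉ T := fun h => hαr (hcase _ (α r).2 h)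
          have hαrS := hRS (α r).2
          -- squares outside `T`
          have hsq : ((α r : R) : Ω) * (α r : R) ∈ V ⊓ W := by
            have h3 : ((α r : R) : Ω) * b⁻¹ ∈ T := g.mul_inv hαrS hαrT hbS hbT
            have h4 : ((α r : R) : Ω) * b⁻¹ ∈ g.Del := hcase _ (R.mul_mem (α r).2 (R.inv_mem hb)) h3
            obtain ⟨t, ht⟩ : ∃ t, t = ((α r : R) : Ω) * b⁻¹ := ⟨_, rfl⟩
            rw [← ht] at h3 h4
            have h5 : ((α r : R) : Ω) = t * b := by rw [ht]; group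
            have h6 := h4.2 b hbS
            have h7 := g.crd.sq_mem (g.mT h3)
            rw [h5]
            have e : t * b * (t * b) = (t * (t * b * t⁻¹ * b⁻¹)⁻¹ * t⁻¹) * (t * t) * (b * b) := by group
            rw [e, g.cenZ ((V ⊓ W).inv_mem h6) h3, mul_inv_cancel_right]
            exact (V ⊓ W).mul_mem ((V ⊓ W).mul_mem ((V ⊓ W).inv_mem h6) h7) hbb
          -- elements of `Δ` commuting with `α r`
          have hcomm : ∀ t ∈ g.Del, t * ((α r : R) : Ω) = (α r : R) * t → t ∈ V ⊓ W := by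
            intro t ht htc
            obtain ⟨v, hv, z, hz, rfl⟩ := g.exists_vv hαrS hαrT ht
            obtain ⟨c, hc⟩ : ∃ c : Ω, c = (α r : R) := ⟨_, rfl⟩
            rw [← hc] at htc hsq hαrT hαrS ⊢
            have sv := (g.sw c hαrS hαrT).a1 v hv
            have h3 : c * (v * (c * v * c⁻¹) * z) * c⁻¹ = v * (c * v * c⁻¹) * z := by
              rw [← htc, mul_inv_cancel_right]
            have h4 : c * (c * v * c⁻¹) * c⁻¹ = v := by
              have e : c * (c * v * c⁻¹) * c⁻¹ = c * c * v * (c * c)⁻¹ := by group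
              rw [e, ← g.cenZ hsq (g.VT hv), mul_inv_cancel_right]
            have e : c * (v * (c * v * c⁻¹) * z) * c⁻¹ = (c * v * c⁻¹) * (c * (c * v * c⁻¹) * c⁻¹) * (c * z * c⁻¹) := by
              group
            rw [e, h4, htriv' c hαrS hαrT z hz] at h3
            have h5 := mul_right_cancel h3
            rcases g.crd.comm_one hv sv h5.symm with h6 | h6
            · exact (V ⊓ W).mul_mem ((V ⊓ W).mul_mem ⟨hv, h6⟩ (g.normZ hαrS ⟨hv, h6⟩)) hz
            · have h7 : v ∈ W := by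
                by_contra h8
                exact g.not_swap hαrS hαrT h8 h6
              exact (V ⊓ W).mul_mem ((V ⊓ W).mul_mem ⟨hv, h7⟩ (g.normZ hαrS ⟨hv, h7⟩)) hz
          -- three elements
          have key : ∀ t : R, (t : Ω) ∈ g.Del → ((α t : R) : Ω) ∈ T → (t : Ω) ∈ V ⊓ W := by
            intro t ht htT
            have h3 : ((α t : R) : Ω) ∈ g.Del := hcase _ (α t).2 htT
            have h4 : α t * α r = α r * α t := by
              rw [← map_mul, ← map_mul]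
              congr 1
              exact Subtype.ext (habel _ ht _ hr)
            have h5 := hcomm _ h3 (congrArg Subtype.val h4)
            have h6 := inv _ ((F.autGroup R).inv_mem hα) _ h5
            rwa [MulAut.inv_apply_self] at h6
          obtain ⟨k, hk⟩ : ∃ k : K, k ∉ ({0, 1} : Finset K) := by
            by_contra hno'
            push Not at hno'
            have h3 : (Finset.univ : Finset K) ⊆ {0, 1} := fun k _ => hno' k
            have h4 := (Finset.card_le_card h3).trans Finset.card_le_two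
            rw [Finset.card_univ] at h4
            omega
          rw [Finset.mem_insert, Finset.mem_singleton, not_or] at hk
          obtain ⟨v₁, hv₁, hk₁⟩ := g.crd.mu_surj 1
          obtain ⟨v₂, hv₂, hk₂⟩ := g.crd.mu_surj k
          have hnz : ∀ v ∈ V, mu v ≠ 0 → v * (b * v * b⁻¹) ∉ V ⊓ W := by
            intro v hv hk0 h3
            have h4 := ((g.crd.mem_Z_iff (g.mT (g.vv_mem hbS hbT hv).1)).1 h3).1
            rw [g.crd.mh_eq hv ((g.sw b hbS hbT).a1 v hv)] at h4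
            exact hk0 h4
          have m₁ := g.vv_mem hbS hbT hv₁
          have m₂ := g.vv_mem hbS hbT hv₂
          obtain ⟨t₁, ht₁⟩ : ∃ t₁ : R, (t₁ : Ω) = v₁ * (b * v₁ * b⁻¹) := ⟨⟨_, hDR m₁⟩, rfl⟩
          obtain ⟨t₂, ht₂⟩ : ∃ t₂ : R, (t₂ : Ω) = v₂ * (b * v₂ * b⁻¹) := ⟨⟨_, hDR m₂⟩, rfl⟩
          rw [← ht₁] at m₁
          rw [← ht₂] at m₂
          have n₁ : ((α t₁ : R) : Ω) ∉ T := fun h3 => by
            have h4 := key t₁ m₁ h3
            rw [ht₁] at h4
            exact hnz v₁ hv₁ (by rw [hk₁]; exact one_ne_zero) h4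
          have n₂ : ((α t₂ : R) : Ω) ∉ T := fun h3 => by
            have h4 := key t₂ m₂ h3
            rw [ht₂] at h4
            exact hnz v₂ hv₂ (by rw [hk₂]; exact hk.1) h4
          have h3 : ((α (t₁ * t₂) : R) : Ω) ∈ T := by
            rw [map_mul]
            exact g.mul _ (hRS (α t₁).2) n₁ _ (hRS (α t₂).2) n₂
          have h4 := key _ (g.Del.mul_mem m₁ m₂) h3
          have h5 := ((g.crd.mem_Z_iff (g.mT (g.ZT h4))).1 h4).1
          rw [Subgroup.coe_mul, g.crd.mh_mul (g.mT m₁.1) (g.mT m₂.1), ht₁, ht₂,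
            g.crd.mh_eq hv₁ ((g.sw b hbS hbT).a1 v₁ hv₁), g.crd.mh_eq hv₂ ((g.sw b hbS hbT).a1 v₂ hv₂), hk₁, hk₂] at h5
          exact hk.2 (g.crd.eq_of_add h5).symm
        · -- `b² ∉ Z`
          intro α hα r hr
          by_contra hαr
          have hαrT : ((α r : R) : Ω) ∉ T := fun h => hαr (hcase _ (α r).2 h)
          have hαrS := hRS (α r).2
          have hsq : ((α r : R) : Ω) * (α r : R) ∈ V ⊓ W := inv α hα (r * r) (g.crd.sq_mem (g.mT hr.1)) |> fun h => by
            rwa [map_mul] at h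
          apply hbb
          have h3 : ((α r : R) : Ω) * b⁻¹ ∈ T := g.mul_inv hαrS hαrT hbS hbT
          have h4 : ((α r : R) : Ω) * b⁻¹ ∈ g.Del := hcase _ (R.mul_mem (α r).2 (R.inv_mem hb)) h3
          obtain ⟨t, ht⟩ : ∃ t, t = ((α r : R) : Ω) * b⁻¹ := ⟨_, rfl⟩
          rw [← ht] at h3 h4
          have h5 : ((α r : R) : Ω) = t * b := by rw [ht]; group
          have h6 := h4.2 b hbS
          have h7 := g.crd.sq_mem (g.mT h3)
          rw [h5] at hsq
          have e : b * b = (t * t)⁻¹ * (t * (t * b * t⁻¹ * b⁻¹) * t⁻¹) * (t * b * (t * b)) := by group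
          rw [e, g.cenZ h6 h3, mul_inv_cancel_right]
          exact (V ⊓ W).mul_mem ((V ⊓ W).mul_mem ((V ⊓ W).inv_mem h7) h6) hsq
      · -- `b` does not centralize `Z`
        push Not at htriv
        obtain ⟨z₁, hz₁, hbz⟩ := htriv
        intro α hα r hr
        by_contra hαr
        have hαrT : ((α r : R) : Ω) ∉ T := fun h => hαr (hcase _ (α r).2 h)
        have hαrS := hRS (α r).2
        apply hbz
        rw [g.act_eq hbS hbT hαrS hαrT hz₁]
        have h3 := inv _ ((F.autGroup R).inv_mem hα) ⟨z₁, hZR hz₁⟩ hz₁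
        have h4 : r * (α⁻¹ ⟨z₁, hZR hz₁⟩) = (α⁻¹ ⟨z₁, hZR hz₁⟩) * r := Subtype.ext (g.cenZ h3 hr.1)
        have h5 := congrArg α h4
        rw [map_mul, map_mul, MulAut.apply_inv_self] at h5
        have h6 : ((α r : R) : Ω) * z₁ = z₁ * (α r : R) := congrArg Subtype.val h5
        rw [h6, mul_inv_cancel_right]
  -- `T ≤ R`
  have hTR : ∀ t ∈ T, t ∈ R := fun t ht => mem_of_chain3 hS hR (V ⊓ W) g.Del (fun z hz => g.Z_le_Del hz) hDR inv invD
    (g.T_le ht) (fun r hr => g.comm_Del (hRS hr) ht) (fun d hd => g.commTT ht hd.1) (fun z hz => g.cenZ hz ht)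
  apply ne_of_isEssential hS hF hR
  refine le_antisymm hRS fun s hs => ?_
  by_cases hsT : s ∈ T
  · exact hTR s hsT
  · have h3 := hTR _ (g.mul_inv hs hsT hbS hbT)
    have := R.mul_mem h3 hb
    rwa [inv_mul_cancel_right] at this

end Geo

end Cfsg.Agent.H456.HM
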