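import Cfsg.Agent.H456.HM.Calc
import Cfsg.Agent.H456.HM.Prin

/-!
# S5175, T12': essential subgroups inside `T` (helper456)
-/

set_option autoImplicit false

namespace Cfsg.Agent.H456.HM

open Cfsg Cfsg.FusionSystem Cfsg.Agent.H756.HM Cfsg.Agent.H802

universe u

/-- `x` swaps `V` and `W` -/
structure Swp {Ω : Type*} [Group Ω] (x : Ω) (V W : Subgroup Ω) : Prop where
  a1 : ∀ v ∈ V, x * v * x⁻¹ ∈ W
  a2 : ∀ w ∈ W, x * w * x⁻¹ ∈ V
  b1 : ∀ v ∈ V, x⁻¹ * v * x ∈ W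
  b2 : ∀ w ∈ W, x⁻¹ * w * x ∈ V

section

variable {Ω : Type*} [Group Ω] {K : Type} [Field K] {V W D : Subgroup Ω} {mu lam zet : Ω → K}

namespace Crd

variable (h : Crd K V W D mu lam zet)

include h

theorem zet_one : zet 1 = 0 := by
  have h4 := h.zet_mul 1 (V ⊓ W).one_mem 1 (V ⊓ W).one_mem
  rw [mul_one] at h4
  linear_combination -h4

theorem comm_iff {v w v' w' : Ω} (hv : v ∈ V) (hw : w ∈ W) (hv' : v' ∈ V) (hw' : w' ∈ W) :
    v * w * (v' * w') = v' * w' * (v * w) ↔ v * w' * v⁻¹ * w'⁻¹ = v' * w * v'⁻¹ * w⁻¹ := by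
  obtain ⟨a, ha⟩ : ∃ a, a = v * w' * v⁻¹ * w'⁻¹ := ⟨_, rfl⟩
  obtain ⟨b, hb⟩ : ∃ b, b = v' * w * v'⁻¹ * w⁻¹ := ⟨_, rfl⟩
  have haZ : a ∈ V ⊓ W := by rw [ha]; exact h.com v hv w' hw'
  have hbZ : b ∈ V ⊓ W := by rw [hb]; exact h.com v' hv' w hw
  have hT : ∀ {z}, z ∈ V → z ∈ V ⊔ W := fun hz => (le_sup_left : V ≤ V ⊔ W) hz
  have ca : ∀ u ∈ V, u * a = a * u := fun u hu => h.cenZ haZ (hT hu)
  have cb : ∀ u ∈ V, u * b = b * u := fun u hu => h.cenZ hbZ (hT hu)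
  have binv : b⁻¹ = b := h.invV hbZ.1
  have ainv : a⁻¹ = a := h.invV haZ.1
  -- `w v' = b v' w`, `w' v = a v w'`
  have e1 : w * v' = b * (v' * w) := by
    rw [← binv, hb]; group
  have e2 : w' * v = a * (v * w') := by
    rw [← ainv, ha]; group
  have e3 : v * w * (v' * w') = b * (v * v' * (w * w')) := by
    calc v * w * (v' * w') = v * (w * v') * w' := by group
      _ = v * b * (v' * w * w') := by rw [e1]; group
      _ = b * (v * v' * (w * w')) := by rw [cb v hv]; group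
  have e4 : v' * w' * (v * w) = a * (v * v' * (w * w')) := by
    calc v' * w' * (v * w) = v' * (w' * v) * w := by group
      _ = v' * a * (v * w' * w) := by rw [e2]; group
      _ = a * (v' * v * (w' * w)) := by rw [ca v' hv']; group
      _ = a * (v * v' * (w * w')) := by rw [h.commV hv' hv, h.commW hw' hw]
  rw [e3, e4, ← ha, ← hb]
  exact ⟨fun h5 => (mul_right_cancel h5).symm, fun h5 => by rw [h5]⟩

/-- proportional elements -/
theorem tri {g h' k g' h1 k1 : Ω} (hg : g ∈ V) (hh : h' ∈ V) (hk : k ∈ V) (hg' : g' ∈ W) (hh1 : h1 ∈ W) (hk1 : k1 ∈ W)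
    (hgW : g ∉ W) (hgV : g' ∉ V) (e1 : g * h1 * g⁻¹ * h1⁻¹ = h' * g' * h'⁻¹ * g'⁻¹)
    (e2 : g * k1 * g⁻¹ * k1⁻¹ = k * g' * k⁻¹ * g'⁻¹) :
    zet (h' * k1 * h'⁻¹ * k1⁻¹) = zet (k * h1 * k⁻¹ * h1⁻¹) := by
  have f1 := congrArg zet e1
  have f2 := congrArg zet e2
  rw [h.zet_com g hg h1 hh1, h.zet_com h' hh g' hg'] at f1
  rw [h.zet_com g hg k1 hk1, h.zet_com k hk g' hg'] at f2
  rw [h.zet_com h' hh k1 hk1, h.zet_com k hk h1 hh1]
  have hm : mu g ≠ 0 := fun h5 => hgW ((h.mu_zero g hg).1 h5)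
  have hl : lam g' ≠ 0 := fun h5 => hgV ((h.lam_zero g' hg').1 h5)
  -- mu g lam h1 = mu h' lam g', mu g lam k1 = mu k lam g'
  have h5 : mu g * lam g' * (mu h' * lam k1) = mu g * lam g' * (mu k * lam h1) := by
    linear_combination (mu h' * lam g') * f2 - (mu k * lam g') * f1
  exact mul_left_cancel₀ (mul_ne_zero hm hl) h5

/-- **The centralizer of an element of `T` outside `V ∪ V^x` is abelian.** -/
theorem cent_abel {x : Ω} (hx : Swp x V W)
    (hD : ∀ d ∈ D, x * d * x⁻¹ ∈ D → d = 1) {z s t : Ω} (hz : z ∈ V ⊔ W) (hzV : z ∉ V) (hzW : z ∉ W)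
    (hs : s ∈ V ⊔ W) (ht : t ∈ V ⊔ W) (hsz : z * s = s * z) (htz : z * t = t * z) : s * t = t * s := by
  obtain ⟨g, hg, g', hg', rfl⟩ := h.mem_sup.1 hz
  obtain ⟨a, ha, a', ha', rfl⟩ := h.mem_sup.1 hs
  obtain ⟨b, hb, b', hb', rfl⟩ := h.mem_sup.1 ht
  have hgW : g ∉ W := fun h5 => hzW (W.mul_mem h5 hg')
  have hgV : g' ∉ V := fun h5 => hzV (V.mul_mem hg h5)
  rw [h.comm_iff hg hg' ha ha'] at hsz
  rw [h.comm_iff hg hg' hb hb'] at htz
  rw [h.comm_iff ha ha' hb hb']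
  -- the coordinate `zet`
  have h1 := h.tri hg ha hb hg' ha' hb' hgW hgV hsz htz
  -- the coordinate `zet` of the conjugates under `x`
  have cx : ∀ v ∈ V, ∀ w ∈ W, x * w * x⁻¹ * (x * v * x⁻¹) * (x * w * x⁻¹)⁻¹ * (x * v * x⁻¹)⁻¹ =
      x * (v * w * v⁻¹ * w⁻¹) * x⁻¹ := by
    intro v hv w hw
    have h5 := h.invV (h.com v hv w hw).1
    rw [← h5]
    group
  have h2 := h.tri (hx.a2 _ hg') (hx.a2 _ ha') (hx.a2 _ hb') (hx.a1 _ hg) (hx.a1 _ ha) (hx.a1 _ hb)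
    (fun h5 => hgV (by
      have h6 := hx.b2 _ h5
      have : x⁻¹ * (x * g' * x⁻¹) * x = g' := by group
      rwa [this] at h6))
    (fun h5 => hgW (by
      have h6 := hx.b1 _ h5
      have : x⁻¹ * (x * g * x⁻¹) * x = g := by group
      rwa [this] at h6))
    (by rw [cx a ha g' hg', cx g hg a' ha', hsz]) (by rw [cx b hb g' hg', cx g hg b' hb', htz])
  rw [cx b hb a' ha', cx a ha b' hb'] at h2
  obtain ⟨u, hu⟩ : ∃ u, u = a * b' * a⁻¹ * b'⁻¹ := ⟨_, rfl⟩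
  obtain ⟨u', hu'⟩ : ∃ u', u' = b * a' * b⁻¹ * a'⁻¹ := ⟨_, rfl⟩
  have huZ : u ∈ V ⊓ W := by rw [hu]; exact h.com a ha b' hb'
  have hu'Z : u' ∈ V ⊓ W := by rw [hu']; exact h.com b hb a' ha'
  rw [← hu, ← hu'] at h1 h2 ⊢
  have xZ : ∀ {z}, z ∈ V ⊓ W → x * z * x⁻¹ ∈ V ⊓ W := fun hz => ⟨hx.a2 _ hz.2, hx.a1 _ hz.1⟩
  have h3 : u * u' ∈ D := by
    rw [← h.zet_zero _ ((V ⊓ W).mul_mem huZ hu'Z), h.zet_mul _ huZ _ hu'Z, h1, h.add_self]
  have h4 : x * (u * u') * x⁻¹ ∈ D := by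
    have e : x * (u * u') * x⁻¹ = (x * u * x⁻¹) * (x * u' * x⁻¹) := by group
    rw [e, ← h.zet_zero _ ((V ⊓ W).mul_mem (xZ huZ) (xZ hu'Z)), h.zet_mul _ (xZ huZ) _ (xZ hu'Z), h2, h.add_self]
  have h5 := hD _ h3 h4
  have h6 : u = u'⁻¹ := eq_inv_of_mul_eq_one_left h5
  rw [h6, h.invV hu'Z.1]

end Crd

/-- the swap in the configuration -/
theorem swp_of_conf {S : Subgroup Ω} {F : FusionSystem S} [Fintype K] {V T : Subgroup Ω} {x : Ω}
    (c : Conf F K V T x) : Swp x V (cj x V) where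
  a1 := fun v hv => conj_mem_cj hv
  a2 := fun w hw => xW c hw
  b1 := fun v hv => by
    rw [mem_cj]
    have h1 := T_normV c (T.inv_mem c.x_sq) hv
    have : x⁻¹ * (x⁻¹ * v * x) * x = (x ^ 2)⁻¹ * v * (x ^ 2)⁻¹⁻¹ := by
      simp only [pow_two, mul_inv_rev, inv_inv, mul_assoc]
    rwa [this]
  b2 := fun w hw => mem_cj.1 hw

theorem DD_of_conf {S : Subgroup Ω} {F : FusionSystem S} [Fintype K] {V T : Subgroup Ω} {x : Ω}
    (c : Conf F K V T x) : ∀ d ∈ fixS V c.E, x * d * x⁻¹ ∈ fixS V c.E → d = 1 := by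
  intro d hd hd'
  have h1 : x * d * x⁻¹ ∈ fixS V c.E ⊓ cj x (fixS V c.E) := ⟨hd', conj_mem_cj hd⟩
  rw [c.DD, Subgroup.mem_bot] at h1
  exact conj_eq_one_iff.1 h1

/-- **T12'.** -/
theorem stEssT : StEssT.{u} := by
  intro Ω _ S _ hS F hF K _ _ V T x b R hR hRT
  have h2 : Fact (Nat.Prime 2) := ⟨Nat.prime_two⟩
  have c : Conf F K V T x := b.toConf
  obtain ⟨mu, lam, zet, h⟩ := exists_crd b.toConf
  have hT : T = V ⊔ cj x V := b.T_eq
  have hTS := T_le b.toConf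
  set W := cj x V with hW
  have hVT := V_le_T b.toConf
  have hWT := W_le_T b.toConf
  have hVS : V ≤ S := b.V_le
  have hWS : W ≤ S := hWT.trans hTS
  have hRVW : R ≤ V ⊔ W := hT ▸ hRT
  have hZR : V ⊓ W ≤ R := fun z hz => ess_cent hR (hVS hz.1) fun r hr => (h.cenZ hz (hRVW hr)).symm
  by_cases hRV : R ≤ V
  · left
    refine le_antisymm hRV fun v hv => ess_cent hR (hVS hv) fun r hr => h.commV hv (hRV hr)
  by_cases hRW : R ≤ W
  · right; left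
    refine le_antisymm hRW fun v hv => ess_cent hR (hWS hv) fun r hr => h.commW hv (hRW hr)
  right; right
  refine le_antisymm hRT ?_
  -- an element outside `V ∪ W`
  obtain ⟨r₀, hr₀, hr₀V, hr₀W⟩ : ∃ r ∈ R, r ∉ V ∧ r ∉ W := by
    obtain ⟨a, ha, haV⟩ := SetLike.not_le_iff_exists.1 hRV
    obtain ⟨b, hb, hbW⟩ := SetLike.not_le_iff_exists.1 hRW
    by_cases haW : a ∈ W
    · by_cases hbV : b ∈ V
      · refine ⟨a * b, R.mul_mem ha hb, fun h5 => haV ?_, fun h5 => hbW ?_⟩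
        · have := V.mul_mem h5 (V.inv_mem hbV)
          rwa [mul_inv_cancel_right] at this
        · have := W.mul_mem (W.inv_mem haW) h5
          rwa [inv_mul_cancel_left] at this
      · exact ⟨b, hb, hbV, hbW⟩
    · exact ⟨a, ha, haV, haW⟩
  -- `Z` is characteristic in `R`
  have hZ : ∀ α ∈ F.autGroup R, ∀ r : R, (r : Ω) ∈ V ⊓ W → ((α r : R) : Ω) ∈ V ⊓ W := by
    intro α _ r hr
    by_cases hab : ∀ a ∈ R, ∀ b ∈ R, a * b = b * a
    · -- `R` abelian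
      have h3 : ((α r : R) : Ω) * (α r : R) = 1 := by
        have h4 : r * r = 1 := Subtype.ext (h.elV r hr.1)
        have h5 := congrArg α h4
        rw [map_mul, map_one] at h5
        exact congrArg Subtype.val h5
      rcases h.inv_mem (hRVW (α r).2) h3 with h4 | h4
      · refine ⟨h4, ?_⟩
        by_contra h5
        exact hr₀V (h.cent_V (hRVW hr₀) h4 h5 (hab _ hr₀ _ (α r).2))
      · refine ⟨?_, h4⟩
        by_contra h5
        exact hr₀W (h.cent_W (hRVW hr₀) h4 h5 (hab _ hr₀ _ (α r).2))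
    · -- `R` not abelian
      have h3 : ∀ a ∈ R, a * ((α r : R) : Ω) = (α r : R) * a := by
        intro a ha
        have h4 : α⁻¹ ⟨a, ha⟩ * r = r * α⁻¹ ⟨a, ha⟩ := Subtype.ext (h.cenZ hr (hRVW (α⁻¹ ⟨a, ha⟩).2))
        have h5 := congrArg α h4
        rw [map_mul, map_mul, MulAut.apply_inv_self] at h5
        exact congrArg Subtype.val h5
      by_cases h4 : ((α r : R) : Ω) ∈ V
      · refine ⟨h4, ?_⟩
        by_contra h5
        exact hr₀V (h.cent_V (hRVW hr₀) h4 h5 (h3 _ hr₀))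
      · by_cases h5 : ((α r : R) : Ω) ∈ W
        · exact absurd (h.cent_W (hRVW hr₀) h5 h4 (h3 _ hr₀)) hr₀W
        · exfalso
          apply hab
          intro a ha b' hb
          exact h.cent_abel (swp_of_conf b.toConf) (DD_of_conf b.toConf) (hRVW (α r).2) h4 h5 (hRVW ha) (hRVW hb)
            (h3 a ha).symm (h3 b' hb).symm
  intro t ht
  have htVW : t ∈ V ⊔ W := hT ▸ ht
  exact mem_of_chain3 hS hR (V ⊓ W) (V ⊓ W) le_rfl hZR hZ hZ (hTS ht) (fun r hr => h.comm_mem htVW (hRVW hr))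
    (fun z hz => by
      rw [h.cenZ hz htVW]
      have : z * t * t⁻¹ * z⁻¹ = 1 := by group
      rw [this]
      exact (V ⊓ W).one_mem) (fun z hz => h.cenZ hz htVW)

end

end Cfsg.Agent.H456.HM
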