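import Cfsg.Agent.H456.HM.EssT

/-!
# S5175, T12: the geometry of `S` (helper456)
-/

set_option autoImplicit false

namespace Cfsg.Agent.H456.HM

open Cfsg Cfsg.FusionSystem Cfsg.Agent.H756.HM Cfsg.Agent.H802

variable {Ω : Type*} [Group Ω] {K : Type} [Field K] {S T V W D : Subgroup Ω} {mu lam zet : Ω → K}

/-- the geometry of `S` -/
structure Geo (K : Type) [Field K] (S T V W D : Subgroup Ω) (mu lam zet : Ω → K) : Prop where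
  crd : Crd K V W D mu lam zet
  T_eq : T = V ⊔ W
  T_le : T ≤ S
  mul : ∀ b ∈ S, b ∉ T → ∀ c ∈ S, c ∉ T → b * c ∈ T
  cenV : ∀ s ∈ S, (∀ v ∈ V, s * v = v * s) → s ∈ V
  sw : ∀ b ∈ S, b ∉ T → Swp b V W
  DD : ∀ b ∈ S, b ∉ T → ∀ d ∈ D, b * d * b⁻¹ ∈ D → d = 1

namespace Geo

variable (g : Geo K S T V W D mu lam zet)

include g

theorem VT {v : Ω} (h : v ∈ V) : v ∈ T := by rw [g.T_eq]; exact (le_sup_left : V ≤ V ⊔ W) h

theorem WT {v : Ω} (h : v ∈ W) : v ∈ T := by rw [g.T_eq]; exact (le_sup_right : W ≤ V ⊔ W) h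

theorem ZT {v : Ω} (h : v ∈ V ⊓ W) : v ∈ T := g.VT h.1

theorem mT {t : Ω} (h : t ∈ T) : t ∈ V ⊔ W := by rwa [← g.T_eq]

theorem cenZ {z t : Ω} (hz : z ∈ V ⊓ W) (ht : t ∈ T) : t * z = z * t := g.crd.cenZ hz (g.mT ht)

theorem bb {b : Ω} (hb : b ∈ S) (hbT : b ∉ T) : b * b ∈ T := g.mul b hb hbT b hb hbT

omit [Field K] g in
theorem inv_not {b : Ω} (hbT : b ∉ T) : b⁻¹ ∉ T := fun h => hbT (by simpa using T.inv_mem h)

/-- the other elements outside `T` -/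
theorem mul_inv {b c : Ω} (hb : b ∈ S) (hbT : b ∉ T) (hc : c ∈ S) (hcT : c ∉ T) : b * c⁻¹ ∈ T :=
  g.mul b hb hbT c⁻¹ (S.inv_mem hc) (inv_not hcT)

/-- `T` is normal in `S` -/
theorem normT {s t : Ω} (hs : s ∈ S) (ht : t ∈ T) : s * t * s⁻¹ ∈ T := by
  by_cases hsT : s ∈ T
  · exact T.mul_mem (T.mul_mem hsT ht) (T.inv_mem hsT)
  · obtain ⟨v, hv, w, hw, rfl⟩ := g.crd.mem_sup.1 (g.mT ht)
    have e : s * (v * w) * s⁻¹ = (s * v * s⁻¹) * (s * w * s⁻¹) := by group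
    rw [e]
    exact T.mul_mem (g.WT ((g.sw s hs hsT).a1 v hv)) (g.VT ((g.sw s hs hsT).a2 w hw))

theorem normZ {s z : Ω} (hs : s ∈ S) (hz : z ∈ V ⊓ W) : s * z * s⁻¹ ∈ V ⊓ W := by
  by_cases hsT : s ∈ T
  · rw [g.cenZ hz hsT, mul_inv_cancel_right]
    exact hz
  · exact ⟨(g.sw s hs hsT).a2 z hz.2, (g.sw s hs hsT).a1 z hz.1⟩

/-- the action of `S ∖ T` on `Z` does not depend on the element -/
theorem act_eq {b c z : Ω} (hb : b ∈ S) (hbT : b ∉ T) (hc : c ∈ S) (hcT : c ∉ T) (hz : z ∈ V ⊓ W) :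
    b * z * b⁻¹ = c * z * c⁻¹ := by
  have h1 := g.mul_inv hb hbT hc hcT
  have h2 := g.cenZ (g.normZ hc hz) h1
  have e : b * z * b⁻¹ = (b * c⁻¹) * (c * z * c⁻¹) * (b * c⁻¹)⁻¹ := by group
  rw [e, h2, mul_inv_cancel_right]

theorem act_sq {b z : Ω} (hb : b ∈ S) (hbT : b ∉ T) (hz : z ∈ V ⊓ W) : b * (b * z * b⁻¹) * b⁻¹ = z := by
  have h1 := g.cenZ hz (g.bb hb hbT)
  have e : b * (b * z * b⁻¹) * b⁻¹ = b * b * z * (b * b)⁻¹ := by group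
  rw [e, h1, mul_inv_cancel_right]

theorem commTT {s t : Ω} (hs : s ∈ T) (ht : t ∈ T) : s * t * s⁻¹ * t⁻¹ ∈ V ⊓ W := g.crd.comm_mem (g.mT hs) (g.mT ht)

theorem invZ {z : Ω} (hz : z ∈ V ⊓ W) : z⁻¹ = z := g.crd.invV hz.1

theorem not_swap {b v : Ω} (hb : b ∈ S) (hbT : b ∉ T) (hvW : v ∉ W) : b * v * b⁻¹ ∉ V := fun h => hvW (by
  have h6 := (g.sw b hb hbT).b1 _ h
  have : b⁻¹ * (b * v * b⁻¹) * b = v := by group
  rwa [this] at h6)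

/-- `Δ / Z = C_{T/Z}(S)` -/
def Del : Subgroup Ω where
  carrier := {t | t ∈ T ∧ ∀ s ∈ S, t * s * t⁻¹ * s⁻¹ ∈ V ⊓ W}
  one_mem' := ⟨T.one_mem, fun s _ => by
    have : (1 : Ω) * s * 1⁻¹ * s⁻¹ = 1 := by group
    rw [this]; exact (V ⊓ W).one_mem⟩
  mul_mem' := by
    rintro a b ⟨ha, ha'⟩ ⟨hb, hb'⟩
    refine ⟨T.mul_mem ha hb, fun s hs => ?_⟩
    have e : a * b * s * (a * b)⁻¹ * s⁻¹ = (a * (b * s * b⁻¹ * s⁻¹) * a⁻¹) * (a * s * a⁻¹ * s⁻¹) := by group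
    rw [e, g.cenZ (hb' s hs) ha, mul_inv_cancel_right]
    exact (V ⊓ W).mul_mem (hb' s hs) (ha' s hs)
  inv_mem' := by
    rintro a ⟨ha, ha'⟩
    refine ⟨T.inv_mem ha, fun s hs => ?_⟩
    have e : a⁻¹ * s * a⁻¹⁻¹ * s⁻¹ = a⁻¹ * (a * s * a⁻¹ * s⁻¹)⁻¹ * a⁻¹⁻¹ := by group
    rw [e, g.cenZ ((V ⊓ W).inv_mem (ha' s hs)) (T.inv_mem ha), mul_inv_cancel_right]
    exact (V ⊓ W).inv_mem (ha' s hs)

theorem mem_Del {t : Ω} : t ∈ g.Del ↔ t ∈ T ∧ ∀ s ∈ S, t * s * t⁻¹ * s⁻¹ ∈ V ⊓ W := Iff.rfl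

theorem Del_le {t : Ω} (h : t ∈ g.Del) : t ∈ T := h.1

theorem mem_Del_of {t b : Ω} (ht : t ∈ T) (hb : b ∈ S) (hbT : b ∉ T) (h : t * b * t⁻¹ * b⁻¹ ∈ V ⊓ W) : t ∈ g.Del := by
  refine ⟨ht, fun s hs => ?_⟩
  by_cases hsT : s ∈ T
  · exact g.commTT ht hsT
  · have h1 := g.mul_inv hs hsT hb hbT
    have e : t * s * t⁻¹ * s⁻¹ = (t * (s * b⁻¹) * t⁻¹ * (s * b⁻¹)⁻¹) * ((s * b⁻¹) * (t * b * t⁻¹ * b⁻¹) * (s * b⁻¹)⁻¹) := by
      group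
    rw [e, g.cenZ h h1, mul_inv_cancel_right]
    exact (V ⊓ W).mul_mem (g.commTT ht h1) h

theorem Z_le_Del {z : Ω} (hz : z ∈ V ⊓ W) : z ∈ g.Del := by
  refine ⟨g.ZT hz, fun s hs => ?_⟩
  have e : z * s * z⁻¹ * s⁻¹ = z * (s * z⁻¹ * s⁻¹) := by group
  rw [e]
  exact (V ⊓ W).mul_mem hz (g.normZ hs ((V ⊓ W).inv_mem hz))

/-- `v v^b ∈ Δ` -/
theorem vv_mem {b v : Ω} (hb : b ∈ S) (hbT : b ∉ T) (hv : v ∈ V) : v * (b * v * b⁻¹) ∈ g.Del := by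
  have hw := (g.sw b hb hbT).a1 v hv
  refine g.mem_Del_of (T.mul_mem (g.VT hv) (g.WT hw)) hb hbT ?_
  -- `b (v v^b) b⁻¹ = v^b v z`
  obtain ⟨z, hz⟩ : ∃ z, z = (b * b) * v * (b * b)⁻¹ * v⁻¹ := ⟨_, rfl⟩
  have hzZ : z ∈ V ⊓ W := by rw [hz]; exact g.commTT (g.bb hb hbT) (g.VT hv)
  have e : v * (b * v * b⁻¹) * b * (v * (b * v * b⁻¹))⁻¹ * b⁻¹ =
      (v * (b * v * b⁻¹) * v⁻¹) * ((b * b) * v * (b * b)⁻¹ * v⁻¹)⁻¹ * (v * (b * v * b⁻¹) * v⁻¹)⁻¹ *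
        (v * (b * v * b⁻¹) * v⁻¹ * (b * v * b⁻¹)⁻¹) := by group
  rw [e, ← hz, g.cenZ ((V ⊓ W).inv_mem hzZ) (T.mul_mem (T.mul_mem (g.VT hv) (g.WT hw)) (T.inv_mem (g.VT hv))),
    mul_inv_cancel_right]
  exact (V ⊓ W).mul_mem ((V ⊓ W).inv_mem hzZ) (g.commTT (g.VT hv) (g.WT hw))

theorem mh_conj {b v w : Ω} (hb : b ∈ S) (hbT : b ∉ T) (hv : v ∈ V) (hw : w ∈ W) :
    g.crd.mh (b * (v * w) * b⁻¹) = mu (b * w * b⁻¹) ∧ g.crd.lh (b * (v * w) * b⁻¹) = lam (b * v * b⁻¹) := by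
  have hv' := (g.sw b hb hbT).a1 v hv
  have hw' := (g.sw b hb hbT).a2 w hw
  have e : b * (v * w) * b⁻¹ = (b * v * b⁻¹) * (b * w * b⁻¹) := by group
  rw [e, g.crd.mh_mul (g.mT (g.WT hv')) (g.mT (g.VT hw')), g.crd.lh_mul (g.mT (g.WT hv')) (g.mT (g.VT hw')),
    g.crd.mh_W hv', g.crd.lh_W hv', g.crd.mh_V hw', g.crd.lh_V hw', zero_add, add_zero]
  exact ⟨rfl, rfl⟩

theorem mh_comm {b t : Ω} (hb : b ∈ S) (ht : t ∈ T) :
    g.crd.mh (t * b * t⁻¹ * b⁻¹) = g.crd.mh t + g.crd.mh (b * t * b⁻¹) ∧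
      g.crd.lh (t * b * t⁻¹ * b⁻¹) = g.crd.lh t + g.crd.lh (b * t * b⁻¹) := by
  have h1 := g.normT hb ht
  have e : t * b * t⁻¹ * b⁻¹ = t * (b * t * b⁻¹)⁻¹ := by group
  rw [e, g.crd.mh_mul (g.mT ht) (g.mT (T.inv_mem h1)), g.crd.lh_mul (g.mT ht) (g.mT (T.inv_mem h1)),
    g.crd.mh_inv (g.mT h1), g.crd.lh_inv (g.mT h1)]
  exact ⟨rfl, rfl⟩

/-- the elements of `Δ` -/
theorem exists_vv {b t : Ω} (hb : b ∈ S) (hbT : b ∉ T) (ht : t ∈ g.Del) :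
    ∃ v ∈ V, ∃ z ∈ V ⊓ W, t = v * (b * v * b⁻¹) * z := by
  obtain ⟨v, hv, w, hw, rfl⟩ := g.crd.mem_sup.1 (g.mT ht.1)
  have hv' := (g.sw b hb hbT).a1 v hv
  have h1 := ht.2 b hb
  have h2 := (g.mh_comm hb ht.1).2
  rw [((g.crd.mem_Z_iff (g.mT (g.ZT h1))).1 h1).2, g.crd.lh_eq hv hw, (g.mh_conj hb hbT hv hw).2] at h2
  have h3 := g.crd.eq_of_add h2.symm
  have h4 : (b * v * b⁻¹)⁻¹ * w ∈ W := W.mul_mem (W.inv_mem hv') hw
  refine ⟨v, hv, (b * v * b⁻¹)⁻¹ * w, ⟨(g.crd.lam_zero _ h4).1 ?_, h4⟩, by group⟩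
  rw [g.crd.lam_mul _ (W.inv_mem hv') _ hw, g.crd.invW hv', h3, g.crd.add_self]

/-- `[T, S] ≤ Δ` -/
theorem comm_Del {s t : Ω} (hs : s ∈ S) (ht : t ∈ T) : t * s * t⁻¹ * s⁻¹ ∈ g.Del := by
  by_cases hsT : s ∈ T
  · exact g.Z_le_Del (g.commTT ht hsT)
  · have hu : t * s * t⁻¹ * s⁻¹ ∈ T := by
      have e : t * s * t⁻¹ * s⁻¹ = t * (s * t⁻¹ * s⁻¹) := by group
      rw [e]
      exact T.mul_mem ht (g.normT hs (T.inv_mem ht))
    refine g.mem_Del_of hu hs hsT ?_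
    have h1 := g.mh_comm hs hu
    have h2 := g.mh_comm hs ht
    have hu' := g.normT hs hu
    have h0 : t * s * t⁻¹ * s⁻¹ * s * (t * s * t⁻¹ * s⁻¹)⁻¹ * s⁻¹ ∈ T := by
      have e : t * s * t⁻¹ * s⁻¹ * s * (t * s * t⁻¹ * s⁻¹)⁻¹ * s⁻¹ =
        (t * s * t⁻¹ * s⁻¹) * (s * (t * s * t⁻¹ * s⁻¹) * s⁻¹)⁻¹ := by group
      rw [e]
      exact T.mul_mem hu (T.inv_mem hu')
    rw [g.crd.mem_Z_iff (g.mT h0), h1.1, h1.2, h2.1, h2.2]
    -- `s [t,s] s⁻¹ = (s t s⁻¹) (s² t s⁻²)⁻¹`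
    have hst := g.normT hs ht
    have hsst : (s * s) * t * (s * s)⁻¹ ∈ T := g.normT (S.mul_mem hs hs) ht
    have e : s * (t * s * t⁻¹ * s⁻¹) * s⁻¹ = (s * t * s⁻¹) * ((s * s) * t * (s * s)⁻¹)⁻¹ := by group
    have e2 : (s * s) * t * (s * s)⁻¹ = ((s * s) * t * (s * s)⁻¹ * t⁻¹) * t := by group
    have h3 := g.commTT (g.bb hs hsT) ht
    have h4 := (g.crd.mem_Z_iff (g.mT (g.ZT h3))).1 h3
    have e3 : g.crd.mh ((s * s) * t * (s * s)⁻¹) = g.crd.mh t := by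
      rw [e2, g.crd.mh_mul (g.mT (g.ZT h3)) (g.mT ht), h4.1, zero_add]
    have e4 : g.crd.lh ((s * s) * t * (s * s)⁻¹) = g.crd.lh t := by
      rw [e2, g.crd.lh_mul (g.mT (g.ZT h3)) (g.mT ht), h4.2, zero_add]
    rw [e, g.crd.mh_mul (g.mT hst) (g.mT (T.inv_mem hsst)), g.crd.lh_mul (g.mT hst) (g.mT (T.inv_mem hsst)),
      g.crd.mh_inv (g.mT hsst), g.crd.lh_inv (g.mT hsst), e3, e4]
    constructor
    · linear_combination (g.crd.add_self (g.crd.mh t)) + g.crd.add_self (g.crd.mh (s * t * s⁻¹))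
    · linear_combination (g.crd.add_self (g.crd.lh t)) + g.crd.add_self (g.crd.lh (s * t * s⁻¹))

/-- the order of `Δ` -/
theorem card_Del [Fintype K] [Finite S] (hex : ∃ b ∈ S, b ∉ T) :
    Nat.card g.Del = Fintype.card K * Nat.card ↥(V ⊓ W) := by
  obtain ⟨b, hb, hbT⟩ := hex
  let μ : g.Del →* Multiplicative K :=
    { toFun := fun t => Multiplicative.ofAdd (g.crd.mh t)
      map_one' := by
        show Multiplicative.ofAdd (g.crd.mh 1) = 1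
        rw [g.crd.mh_one]; rfl
      map_mul' := fun s t => by
        show Multiplicative.ofAdd (g.crd.mh (s * t)) = _
        rw [g.crd.mh_mul (g.mT s.2.1) (g.mT t.2.1)]; rfl }
  have hμ : Function.Surjective μ := by
    intro k
    obtain ⟨v, hv, hv'⟩ := g.crd.mu_surj (Multiplicative.toAdd k)
    refine ⟨⟨_, g.vv_mem hb hbT hv⟩, ?_⟩
    show Multiplicative.ofAdd (g.crd.mh (v * (b * v * b⁻¹))) = k
    rw [g.crd.mh_eq hv ((g.sw b hb hbT).a1 v hv), hv']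
    rfl
  have h4 := Subgroup.card_mul_index μ.ker
  rw [Subgroup.index_ker, MonoidHom.range_eq_top.2 hμ, Subgroup.card_top, Nat.card_congr Multiplicative.toAdd,
    Nat.card_eq_fintype_card (α := K)] at h4
  have hle : V ⊓ W ≤ g.Del := fun z hz => g.Z_le_Del hz
  have h5 : μ.ker = (V ⊓ W).subgroupOf g.Del := by
    ext t
    rw [MonoidHom.mem_ker, Subgroup.mem_subgroupOf]
    constructor
    · intro h6
      have h7 : g.crd.mh t = 0 := ofAdd_eq_one.1 h6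
      obtain ⟨v, hv, z, hz, hvz⟩ := g.exists_vv hb hbT t.2
      have hv' := (g.sw b hb hbT).a1 v hv
      rw [hvz, mul_assoc, g.crd.mh_eq hv (W.mul_mem hv' hz.2), g.crd.mu_zero v hv] at h7
      rw [hvz]
      exact (V ⊓ W).mul_mem ((V ⊓ W).mul_mem ⟨hv, h7⟩ (g.normZ hb ⟨hv, h7⟩)) hz
    · intro h6
      exact ofAdd_eq_one.2 (g.crd.mh_W h6.2)
  rw [h5, Nat.card_congr (Subgroup.subgroupOfEquivOfLe hle).toEquiv, mul_comm] at h4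
  exact h4.symm

/-- **The action of an element of `S ∖ T` is semilinear** (`D = 1`). -/
theorem semi (hD : D = ⊥) {b : Ω} (hb : b ∈ S) (hbT : b ∉ T) :
    ∃ (σ : K →+* K) (a : K), a ≠ 0 ∧ (∀ k, σ (σ k) = k) ∧ (∀ v ∈ V, lam (b * v * b⁻¹) = a * σ (mu v)) ∧
      (∀ w ∈ W, mu (b * w * b⁻¹) = (σ a)⁻¹ * σ (lam w)) ∧
      ∀ z ∈ V ⊓ W, zet (b * z * b⁻¹) = a * (σ a)⁻¹ * σ (zet z) := by
  have h := g.crd
  have sw := g.sw b hb hbT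
  choose sV hsV hsV' using h.mu_surj
  choose sW hsW hsW' using h.lam_surj
  choose sZ hsZ hsZ' using h.zet_surj
  obtain ⟨α, hα⟩ : ∃ α : K → K, ∀ k, α k = lam (b * sV k * b⁻¹) := ⟨_, fun _ => rfl⟩
  obtain ⟨β, hβ⟩ : ∃ β : K → K, ∀ k, β k = mu (b * sW k * b⁻¹) := ⟨_, fun _ => rfl⟩
  obtain ⟨γ, hγ⟩ : ∃ γ : K → K, ∀ k, γ k = zet (b * sZ k * b⁻¹) := ⟨_, fun _ => rfl⟩
  have hα1 : ∀ v ∈ V, lam (b * v * b⁻¹) = α (mu v) := by
    intro v hv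
    rw [hα]
    apply h.lam_eq (sw.a1 _ (hsV _)) (sw.a1 _ hv)
    have h1 : (sV (mu v))⁻¹ * v ∈ V ⊓ W := by
      have h2 : (sV (mu v))⁻¹ * v ∈ V := V.mul_mem (V.inv_mem (hsV _)) hv
      refine ⟨h2, (h.mu_zero _ h2).1 ?_⟩
      rw [h.mu_mul _ (V.inv_mem (hsV _)) _ hv, h.invV (hsV _), hsV', h.add_self]
    have e : (b * sV (mu v) * b⁻¹)⁻¹ * (b * v * b⁻¹) = b * ((sV (mu v))⁻¹ * v) * b⁻¹ := by group
    rw [e]
    exact (g.normZ hb h1).1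
  have hβ1 : ∀ w ∈ W, mu (b * w * b⁻¹) = β (lam w) := by
    intro v hv
    rw [hβ]
    apply h.mu_eq (sw.a2 _ (hsW _)) (sw.a2 _ hv)
    have h1 : (sW (lam v))⁻¹ * v ∈ V ⊓ W := by
      have h2 : (sW (lam v))⁻¹ * v ∈ W := W.mul_mem (W.inv_mem (hsW _)) hv
      refine ⟨(h.lam_zero _ h2).1 ?_, h2⟩
      rw [h.lam_mul _ (W.inv_mem (hsW _)) _ hv, h.invW (hsW _), hsW', h.add_self]
    have e : (b * sW (lam v) * b⁻¹)⁻¹ * (b * v * b⁻¹) = b * ((sW (lam v))⁻¹ * v) * b⁻¹ := by group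
    rw [e]
    exact (g.normZ hb h1).2
  have zinj : ∀ z ∈ V ⊓ W, ∀ z' ∈ V ⊓ W, zet z = zet z' → z = z' := by
    intro z hz z' hz' hzz
    have h1 : z * z' ∈ D := by
      rw [← h.zet_zero _ ((V ⊓ W).mul_mem hz hz'), h.zet_mul _ hz _ hz', hzz, h.add_self]
    rw [hD, Subgroup.mem_bot] at h1
    have h2 := eq_inv_of_mul_eq_one_left h1
    rw [h2, g.invZ hz']
  have hγ1 : ∀ z ∈ V ⊓ W, zet (b * z * b⁻¹) = γ (zet z) := by
    intro z hz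
    rw [hγ, zinj _ (hsZ _) z hz (hsZ' _)]
  -- additivity
  have αadd : ∀ k l, α (k + l) = α k + α l := by
    intro k l
    have h1 := hα1 _ (V.mul_mem (hsV k) (hsV l))
    rw [h.mu_mul _ (hsV k) _ (hsV l), hsV', hsV'] at h1
    rw [← h1]
    have e : b * (sV k * sV l) * b⁻¹ = (b * sV k * b⁻¹) * (b * sV l * b⁻¹) := by group
    rw [e, h.lam_mul _ (sw.a1 _ (hsV k)) _ (sw.a1 _ (hsV l)), ← hα, ← hα]
  -- the relation
  have rel : ∀ k l, γ (k * l) = α k * β l := by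
    intro k l
    have h1 := h.com _ (hsV k) _ (hsW l)
    have h2 := hγ1 _ h1
    rw [h.zet_com _ (hsV k) _ (hsW l), hsV', hsW'] at h2
    rw [← h2]
    have h3 := h.com _ (sw.a2 _ (hsW l)) _ (sw.a1 _ (hsV k))
    have e : b * (sV k * sW l * (sV k)⁻¹ * (sW l)⁻¹) * b⁻¹ =
        ((b * sW l * b⁻¹) * (b * sV k * b⁻¹) * (b * sW l * b⁻¹)⁻¹ * (b * sV k * b⁻¹)⁻¹)⁻¹ := by group
    rw [e, g.invZ h3, h.zet_com _ (sw.a2 _ (hsW l)) _ (sw.a1 _ (hsV k)), ← hβ, ← hα, mul_comm]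
  have βα : ∀ k, β (α k) = k := by
    intro k
    have h1 := hβ1 _ (sw.a1 _ (hsV k))
    rw [← hα] at h1
    rw [← h1]
    conv_rhs => rw [← hsV' k]
    have h2 : b * (b * sV k * b⁻¹) * b⁻¹ ∈ V := sw.a2 _ (sw.a1 _ (hsV k))
    apply h.mu_eq (hsV k) h2
    have e : (sV k)⁻¹ * (b * (b * sV k * b⁻¹) * b⁻¹) = (sV k)⁻¹ * (b * b) * (sV k)⁻¹⁻¹ * (b * b)⁻¹ := by group
    rw [e]
    exact (g.commTT (g.VT (V.inv_mem (hsV k))) (g.bb hb hbT)).2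
  have hα0 : ∀ k, k ≠ 0 → α k ≠ 0 := by
    intro k hk h1
    rw [hα, h.lam_zero _ (sw.a1 _ (hsV k))] at h1
    have h2 := sw.b1 _ h1
    have e : b⁻¹ * (b * sV k * b⁻¹) * b = sV k := by group
    rw [e, ← h.mu_zero _ (hsV k), hsV'] at h2
    exact hk h2
  set a := α 1 with ha
  set e := β 1 with he
  have ha0 : a ≠ 0 := hα0 1 one_ne_zero
  have hγa : ∀ k, γ k = a * β k := fun k => by have := rel 1 k; rwa [one_mul] at this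
  have hγe : ∀ k, γ k = α k * e := fun k => by have := rel k 1; rwa [mul_one] at this
  have he0 : e ≠ 0 := by
    intro h1
    have h2 := hγe (0 : K)
    have h3 := hγa (α 1)
    rw [βα, hγe, h1, mul_zero, mul_one] at h3
    exact ha0 h3.symm
  have hβ' : ∀ k, β k = a⁻¹ * e * α k := by
    intro k
    have h1 := (hγa k).symm.trans (hγe k)
    field_simp
    linear_combination h1
  let σ : K →+* K :=
    { toFun := fun k => a⁻¹ * α k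
      map_one' := inv_mul_cancel₀ ha0
      map_mul' := fun k l => by
        show a⁻¹ * α (k * l) = a⁻¹ * α k * (a⁻¹ * α l)
        have h1 := rel k l
        rw [hγe, hβ'] at h1
        have h2 : α (k * l) * e = (a⁻¹ * α k * α l) * e := by linear_combination h1
        rw [mul_right_cancel₀ he0 h2]
        ring
      map_zero' := by
        show a⁻¹ * α 0 = 0
        have h1 := αadd 0 0
        rw [add_zero] at h1
        have h2 : α 0 = 0 := by linear_combination -h1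
        rw [h2, mul_zero]
      map_add' := fun k l => by
        show a⁻¹ * α (k + l) = a⁻¹ * α k + a⁻¹ * α l
        rw [αadd]; ring }
  have hσ : ∀ k, α k = a * σ k := fun k => by
    show α k = a * (a⁻¹ * α k)
    rw [mul_inv_cancel_left₀ ha0]
  have hσe : ∀ k, β k = e * σ k := fun k => by
    rw [hβ']
    show a⁻¹ * e * α k = e * (a⁻¹ * α k)
    ring
  have hea : e * σ a = 1 := by
    have h1 := βα 1
    rw [hσe] at h1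
    exact h1
  have hσa0 : σ a ≠ 0 := right_ne_zero_of_mul_eq_one hea
  have he' : e = (σ a)⁻¹ := eq_inv_of_mul_eq_one_left hea
  refine ⟨σ, a, ha0, fun k => ?_, fun v hv => ?_, fun w hw => ?_, fun z hz => ?_⟩
  · have h1 := βα k
    rw [hσe, hσ, map_mul] at h1
    calc σ (σ k) = e * σ a * σ (σ k) := by rw [hea, one_mul]
      _ = e * (σ a * σ (σ k)) := by ring
      _ = k := h1
  · rw [hα1 v hv, hσ]
  · rw [hβ1 w hw, hσe, he']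
  · rw [hγ1 z hz, hγa, hσe, he', mul_assoc]

end Geo

end Cfsg.Agent.H456.HM
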